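import Cfsg.Agent.Lib.SpOddDeg63.Elements

/-!
Every element of `Sp_{2n}(F)` lies in a double coset of the Siegel parabolic of a partial Weyl
element.
-/

set_option autoImplicit false

namespace Cfsg.Agent.Lib.SpOddDeg63

open Matrix Cfsg.Agent.Lib.MinDegree

variable {n : ℕ} {F : Type*} [Field F]

/-- An element of the Siegel parabolic is a Levi element times a unipotent. -/
theorem exists_levi_uu {g : SpG n F} (h : g.1.toBlocks₁₂ = 0) :
    ∃ (a : GL (Fin n) F) (B : symMats n F), g = leviSp n F a * uu B := by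
  set A := g.1.toBlocks₁₁ with hA
  set C := g.1.toBlocks₂₁ with hC
  set D := g.1.toBlocks₂₂ with hD
  have hg : g.1 = fromBlocks A 0 C D := by rw [← fromBlocks_toBlocks g.1, h]
  have hs := SymplecticGroup.mem_iff'.1 g.2
  rw [hg] at hs
  simp only [Matrix.J, fromBlocks_transpose, fromBlocks_multiply, fromBlocks_inj, transpose_zero,
    mul_zero, zero_mul, add_zero, zero_add, mul_neg, neg_mul, mul_one, neg_inj] at hs
  obtain ⟨h11, h12, h21, -⟩ := hs
  have hinv : Aᵀ * D = 1 := h12
  have hinv' : D * Aᵀ = 1 := mul_eq_one_comm.1 hinv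
  let a : GL (Fin n) F := ⟨A, Dᵀ, by rw [← transpose_transpose (A * Dᵀ), transpose_mul,
      transpose_transpose, hinv', transpose_one],
    by rw [← transpose_transpose (Dᵀ * A), transpose_mul, transpose_transpose, hinv, transpose_one]⟩
  have hsym : (Aᵀ * C)ᵀ = Aᵀ * C := by
    rw [transpose_mul, transpose_transpose]
    have := h11
    rw [← sub_eq_add_neg, sub_eq_zero] at this
    exact this
  refine ⟨a, ⟨Aᵀ * C, hsym⟩, Subtype.ext ?_⟩
  rw [Submonoid.coe_mul, uu_coe, levi_coe, hg]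
  show _ = fromBlocks A 0 0 Dᵀᵀ * fromBlocks 1 0 (Aᵀ * C) 1
  simp [fromBlocks_multiply, ← mul_assoc, hinv']

/-- Gaussian elimination to a zero-one diagonal. -/
theorem exists_rank_form (M : Matrix (Fin n) (Fin n) F) :
    ∃ (a b : GL (Fin n) F) (J : Finset (Fin n)),
      a.1 * M * b.1 = diagonal (fun i => if i ∈ J then 1 else 0) := by
  classical
  obtain ⟨L, L', D, hM⟩ := Matrix.Pivot.exists_list_transvec_mul_diagonal_mul_list_transvec M
  have hu : ∀ K : List (TransvectionStruct (Fin n) F),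
      IsUnit (K.map TransvectionStruct.toMatrix).prod := fun K => by
    rw [Matrix.isUnit_iff_isUnit_det, TransvectionStruct.det_toMatrix_prod]
    exact isUnit_one
  obtain ⟨l, hl⟩ := hu L
  obtain ⟨r, hr⟩ := hu L'
  let d : Fin n → F := fun i => if D i = 0 then 1 else (D i)⁻¹
  have hd : ∀ i, d i ≠ 0 := fun i => by
    simp only [d]; split_ifs with h <;> simp [h]
  refine ⟨dgl d hd * l⁻¹, r⁻¹, Finset.univ.filter fun i => D i ≠ 0, ?_⟩
  rw [hM, ← hl, ← hr, Units.val_mul]
  show diagonal d * (l⁻¹).1 * (l.1 * diagonal D * r.1) * (r⁻¹).1 = _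
  rw [show diagonal d * (l⁻¹).1 * (l.1 * diagonal D * r.1) * (r⁻¹).1 =
      diagonal d * ((l⁻¹).1 * l.1) * diagonal D * (r.1 * (r⁻¹).1) by simp only [mul_assoc],
    Units.inv_mul, Units.mul_inv, mul_one, mul_one, diagonal_mul_diagonal]
  congr 1
  funext i
  by_cases h : D i = 0 <;> simp [d, h]

/-- The decomposition. -/
theorem exists_decomp (g : SpG n F) :
    ∃ (p q : SpG n F) (J : Finset (Fin n)),
      p.1.toBlocks₁₂ = 0 ∧ q.1.toBlocks₁₂ = 0 ∧ g = p * wJ J * q := by
  classical
  obtain ⟨a, b, J, hab⟩ := exists_rank_form g.1.toBlocks₁₂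
  let bt : GL (Fin n) F := ((Matrix.isUnit_transpose (A := b.1)).2 b.isUnit).unit
  set e : Fin n → F := fun i => if i ∈ J then 1 else 0 with he
  set g1 : SpG n F := leviSp n F a * g * leviSp n F bt⁻¹ with hg1
  have h12 : g1.1.toBlocks₁₂ = diagonal e := by
    rw [← hab, hg1, Submonoid.coe_mul, Submonoid.coe_mul, levi_coe, levi_coe,
      ← fromBlocks_toBlocks g.1, fromBlocks_multiply, fromBlocks_multiply]
    simp only [toBlocks_fromBlocks₁₂, zero_mul, mul_zero, add_zero, zero_add, inv_inv]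
    show _ * (b.1ᵀ)ᵀ = _
    rw [transpose_transpose]
  set D := g1.1.toBlocks₂₂ with hD
  have hsym : diagonal e * D = Dᵀ * diagonal e := by
    have hs := SymplecticGroup.mem_iff'.1 g1.2
    rw [← fromBlocks_toBlocks g1.1, h12, ← hD] at hs
    simp only [Matrix.J, fromBlocks_transpose, fromBlocks_multiply, fromBlocks_inj,
      diagonal_transpose, mul_zero, zero_mul, add_zero, zero_add, mul_neg, neg_mul, mul_one] at hs
    have := hs.2.2.2
    rw [← sub_eq_add_neg, sub_eq_zero] at this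
    exact this.symm
  have hentry : ∀ p r, e p * D p r = D r p * e r := fun p r => by
    have := congrFun (congrFun hsym p) r
    rwa [diagonal_mul, mul_diagonal, transpose_apply] at this
  -- clear the columns in `J`
  let S : Matrix (Fin n) (Fin n) F := Matrix.of fun p r =>
    if r ∈ J then -D p r else if p ∈ J then -D r p else 0
  have hS : Sᵀ = S := by
    ext p r
    have := hentry p r
    simp only [transpose_apply, S, Matrix.of_apply]
    by_cases hp : p ∈ J <;> by_cases hr : r ∈ J <;> simp_all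
  set g2 : SpG n F := uu ⟨S, hS⟩ * g1 with hg2
  have hB2 : g2.1.toBlocks₁₂ = diagonal e := by
    rw [hg2, Submonoid.coe_mul, uu_coe, ← fromBlocks_toBlocks g1.1, h12, fromBlocks_multiply,
      toBlocks_fromBlocks₁₂]
    simp
  have hD2 : ∀ p r, p ∈ J → g2.1.toBlocks₂₂ p r = 0 := by
    intro p r hp
    rw [hg2, Submonoid.coe_mul, uu_coe, ← fromBlocks_toBlocks g1.1, h12, fromBlocks_multiply,
      toBlocks_fromBlocks₂₂, one_mul, ← hD, Matrix.add_apply, mul_diagonal]
    have := hentry p r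
    by_cases hr : r ∈ J <;> simp_all [S]
  have hwg : (wJ J * g2).1.toBlocks₁₂ = 0 := by
    rw [Submonoid.coe_mul, wJ, dsl_coe, ← fromBlocks_toBlocks g2.1, hB2, fromBlocks_multiply,
      toBlocks_fromBlocks₁₂, diagonal_mul_diagonal]
    ext p r
    rw [Matrix.add_apply, diagonal_mul, Matrix.zero_apply]
    by_cases hp : p ∈ J
    · rw [hD2 p r hp]; simp [diagonal_apply, e, hp]
    · simp [diagonal_apply, e, hp]
  -- assemble
  have hinv : (wJ J)⁻¹ = wJ J * dsl (fun i => if i ∈ J then (-1 : F) else 1) 0 0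
      (fun i => if i ∈ J then (-1 : F) else 1) (fun i => by split_ifs <;> simp) := by
    refine inv_eq_of_mul_eq_one_right ?_
    rw [wJ, dsl_mul, dsl_mul, ← dsl_one]
    refine dsl_congr ?_ ?_ ?_ ?_ <;> funext i <;>
      (by_cases hi : i ∈ J <;> simp [hi])
  set hh : SpG n F := dsl (fun i => if i ∈ J then (-1 : F) else 1) 0 0
      (fun i => if i ∈ J then (-1 : F) else 1) (fun i => by split_ifs <;> simp)
  refine ⟨(leviSp n F a)⁻¹ * (uu ⟨S, hS⟩)⁻¹, hh * (wJ J * g2) * leviSp n F bt, J, ?_, ?_, ?_⟩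
  · rw [← map_inv, ← map_inv, ← ofAdd_neg, Submonoid.coe_mul, levi_coe, lowerUni_coe,
      fromBlocks_multiply, toBlocks_fromBlocks₁₂]
    simp
  · set w' : SpG n F := wJ J * g2 with hw'
    rw [Submonoid.coe_mul, Submonoid.coe_mul, ← fromBlocks_toBlocks w'.1, hwg, dsl_coe, levi_coe,
      fromBlocks_multiply, fromBlocks_multiply, toBlocks_fromBlocks₁₂]
    simp
  · calc g = (leviSp n F a)⁻¹ * (uu ⟨S, hS⟩)⁻¹ * (wJ J)⁻¹ * (wJ J * g2) * leviSp n F bt := by
          rw [hg2, hg1, map_inv]; group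
      _ = _ := by rw [hinv]; simp only [mul_assoc]

end Cfsg.Agent.Lib.SpOddDeg63
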