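import Cfsg.Agent.Lib.SpOddDeg63.Spectrum

/-!
The action of one hyperbolic plane on a line of rank-one eigenspaces: the Weyl element acts by a
finite Fourier transform, times a scalar.
-/

set_option autoImplicit false

namespace Cfsg.Agent.Lib.SpOddDeg63

open Matrix Cfsg.Agent.Lib.MinDegree Cfsg.Agent.Lib.UniDeg48

variable {n : ℕ} {F : Type*} [Field F] [Fintype F]
variable {V : Type*} [AddCommGroup V] [Module ℂ V]
variable (ψ : AddChar F ℂ) (ρ : Representation ℂ (symplecticGroup (Fin n) F) V)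

omit [Fintype F] in
theorem trace_r1 (b : F) (y : Fin n → F) (B : Matrix (Fin n) (Fin n) F) :
    trace (r1 b y * B) = b * (y ⬝ᵥ (B *ᵥ y)) := by
  rw [r1, Matrix.smul_mul, trace_smul, smul_eq_mul, trace_mul_comm, mul_vecMulVec, trace_vecMulVec,
    dotProduct_comm]

/-- Data of a line of eigenspaces. -/
structure Line (n : ℕ) (F : Type*) [Field F] where
  /-- The moving coordinate. -/
  j : Fin n
  /-- A coordinate of the support. -/
  k : Fin n
  hjk : j ≠ k
  /-- The scalar. -/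
  α : F
  hα : α ≠ 0
  /-- The base vector. -/
  v : Fin n → F
  hvj : v j = 0
  hvk : v k ≠ 0

variable (L : Line n F)

/-- The shear moving along the line. -/
def Line.T (s : F) : GL (Fin n) F := tv L.j L.k L.hjk s

/-- The points of the line. -/
def Line.pt (s : F) : Fin n → F := (L.T s).1 *ᵥ L.v

/-- The matrices of the line. -/
def Line.mat (s : F) : Matrix (Fin n) (Fin n) F := r1 L.α (L.pt s)

omit [Fintype F] in
theorem Line.pt_apply (s : F) (p : Fin n) :
    L.pt s p = if p = L.j then s * L.v L.k else L.v p := by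
  rw [Line.pt, Line.T, tv_mulVec]
  rcases eq_or_ne p L.j with rfl | hp
  · simp [L.hvj]
  · simp [hp]

omit [Fintype F] in
theorem Line.pt_zero : L.pt 0 = L.v := by
  funext p
  rw [L.pt_apply]
  split_ifs with h
  · rw [h, L.hvj, zero_mul]
  · rfl

omit [Fintype F] in
theorem Line.mat_zero : L.mat 0 = r1 L.α L.v := by rw [Line.mat, L.pt_zero]

omit [Fintype F] in
theorem Line.act_mat_zero (s : F) : act (L.T s) (L.mat 0) = L.mat s := by
  rw [L.mat_zero, act_r1]; rfl

omit [Fintype F] in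
theorem Line.mat_inj {r s : F} (h : L.mat r = L.mat s) : r = s := by
  have := congrFun (congrFun h L.j) L.k
  rw [Line.mat, Line.mat, r1_apply, r1_apply, L.pt_apply r L.j, L.pt_apply s L.j,
    L.pt_apply r L.k, L.pt_apply s L.k, if_pos rfl, if_pos rfl, if_neg L.hjk.symm, if_neg L.hjk.symm] at this
  exact mul_right_cancel₀ L.hvk (mul_right_cancel₀ L.hvk (mul_left_cancel₀ L.hα this))

/-- The shear operators. -/
noncomputable def Line.X (s : F) : Module.End ℂ V := ρ (leviSp n F (L.T s))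

omit [Fintype F] in
theorem Line.X_zero (u : V) : L.X ρ 0 u = u := by
  rw [Line.X, Line.T, tv_zero, map_one, map_one, Module.End.one_apply]

omit [Fintype F] in
theorem Line.X_mem {c : V} (hc : c ∈ ev ψ ρ (L.mat 0)) (s : F) :
    L.X ρ s c ∈ ev ψ ρ (L.mat s) := by
  rw [← L.act_mat_zero s]
  exact levi_mem_ev _ hc

/-- Joint eigenvectors of the unipotents vanishing on the moving row. -/
def Line.Rel (u : V) : Prop :=
  ∀ B : symMats n F, (∀ r, B.1 L.j r = 0) → ρ (uu B) u = symChar ψ (L.mat 0) B • u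

omit [Fintype F] in
theorem Line.rel_of_mem {s : F} {u : V} (hu : u ∈ ev ψ ρ (L.mat s)) : L.Rel ψ ρ u := by
  intro B hB
  rw [uu_apply_ev hu B]
  congr 1
  show ψ (trace (L.mat s * B.1)) = ψ (trace (L.mat 0 * B.1))
  rw [Line.mat, Line.mat, trace_r1, trace_r1]
  have hcol : ∀ r, B.1 r L.j = 0 := fun r => by
    rw [show B.1 r L.j = B.1ᵀ L.j r from rfl, show B.1ᵀ = B.1 from B.2, hB]
  refine congrArg ψ (congrArg (L.α * ·) ?_)
  simp only [dotProduct]
  refine Finset.sum_congr rfl fun p _ => ?_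
  have e : (B.1 *ᵥ L.pt s) p = (B.1 *ᵥ L.pt 0) p := by
    simp only [Matrix.mulVec, dotProduct]
    refine Finset.sum_congr rfl fun r _ => ?_
    rcases eq_or_ne r L.j with rfl | hr
    · simp [hcol]
    · simp [L.pt_apply, hr]
  rw [e]
  rcases eq_or_ne p L.j with rfl | hp
  · have : (B.1 *ᵥ L.pt 0) L.j = 0 := by simp [Matrix.mulVec, dotProduct, hB]
    simp [this]
  · simp [L.pt_apply, hp]

omit [Fintype F] in
theorem Line.rel_plane {u : V} (hu : L.Rel ψ ρ u) (a b c d : F) (h : a * d - b * c = 1) :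
    L.Rel ψ ρ (ρ (e2 L.j a b c d h) u) := by
  intro B hB
  rw [← Module.End.mul_apply, ← map_mul, ← (e2_comm_uu L.j a b c d h hB).eq, map_mul,
    Module.End.mul_apply, hu B hB, map_smul]

variable {ψ ρ} (h2 : (2 : F) ≠ 0) (hψ : ψ 1 ≠ 1) (hR : RankOne ψ ρ)

include h2 hψ hR in
theorem Line.support {u : V} (hu : L.Rel ψ ρ u) {S : Matrix (Fin n) (Fin n) F} (hS : S.IsSymm)
    (h : pr ψ ρ S u ≠ 0) : ∃ s, S = L.mat s := by
  obtain ⟨b, y, rfl⟩ := hR S hS (fun hb => h (by
    have := pr_mem (ψ := ψ) (ρ := ρ) S u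
    rw [hb] at this; simpa using this))
  have key : ∀ p r, p ≠ L.j → r ≠ L.j → b * (y p * y r) = L.α * (L.v p * L.v r) := by
    intro p r hp hr
    have := entries_eq ψ h2 hψ hS (r1_isSymm L.α L.v) (fun i => i = L.j)
      (fun B hB => by rw [char_eq_of_pr_ne_zero h (hu B (hB L.j rfl)), L.mat_zero])
      (k := p) (l := r) hp hr
    rwa [r1_apply, r1_apply] at this
  have hkk := key L.k L.k L.hjk.symm L.hjk.symm
  have hyk : y L.k ≠ 0 := by
    intro h0
    rw [h0] at hkk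
    simp only [mul_zero] at hkk
    exact mul_ne_zero L.hα (mul_ne_zero L.hvk L.hvk) hkk.symm
  set c := L.v L.k / y L.k with hc
  refine ⟨c * y L.j / L.v L.k, ?_⟩
  have hb : b = L.α * c ^ 2 := by
    rw [hc]; field_simp; linear_combination hkk
  have hpt : L.pt (c * y L.j / L.v L.k) = c • y := by
    funext p
    rw [L.pt_apply, Pi.smul_apply, smul_eq_mul]
    split_ifs with hp
    · rw [hp, div_mul_cancel₀ _ L.hvk]
    · have := key L.k p L.hjk.symm hp
      rw [hb] at this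
      have hc' : c * y L.k = L.v L.k := by rw [hc, div_mul_cancel₀ _ hyk]
      refine mul_left_cancel₀ (mul_ne_zero L.hα L.hvk) ?_
      linear_combination -this + (L.α * c * y p) * hc'
  rw [Line.mat, hpt, hb]
  ext p r
  simp only [r1_apply, Pi.smul_apply, smul_eq_mul]
  ring

omit [Fintype F] in
theorem Line.mat_isSymm (s : F) : (L.mat s).IsSymm := r1_isSymm _ _

include h2 hψ hR in
theorem Line.decomp {u : V} (hu : L.Rel ψ ρ u) : u = ∑ s, pr ψ ρ (L.mat s) u := by
  classical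
  rw [← sub_eq_zero, ← Submodule.mem_bot ℂ]
  refine mem_of_pr (ψ := ψ) (ρ := ρ) h2 hψ fun S hS => ?_
  rw [Submodule.mem_bot, map_sub, map_sum, sub_eq_zero]
  by_cases h : ∃ s, S = L.mat s
  · obtain ⟨s, rfl⟩ := h
    rw [Finset.sum_eq_single s]
    · rw [pr_self (pr_mem _ _)]
    · intro r _ hr
      exact pr_of_ne h2 hψ hS (L.mat_isSymm r) (fun e => hr (L.mat_inj e).symm) (pr_mem _ _)
    · simp
  · rw [Finset.sum_eq_zero fun r _ => pr_of_ne h2 hψ hS (L.mat_isSymm r)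
      (fun e => h ⟨r, e⟩) (pr_mem _ _)]
    by_contra h0
    exact h (L.support h2 hψ hR hu hS h0)

include h2 hψ in
theorem Line.pr_zero_X [DecidableEq F] {c : V} (hc : c ∈ ev ψ ρ (L.mat 0)) (r : F) :
    pr ψ ρ (L.mat 0) (L.X ρ r c) = if r = 0 then c else 0 := by
  classical
  split_ifs with h
  · rw [h, L.X_zero, pr_self hc]
  · exact pr_of_ne h2 hψ (L.mat_isSymm 0) (L.mat_isSymm r) (fun e => h (L.mat_inj e).symm)
      (L.X_mem ψ ρ hc r)

include h2 hψ hR in
theorem Line.fixed_eq {u : V} (hu : L.Rel ψ ρ u) (hfix : ∀ s, L.X ρ s u = u) :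
    u = ∑ s, L.X ρ s (pr ψ ρ (L.mat 0) u) := by
  conv_lhs => rw [L.decomp h2 hψ hR hu]
  refine Finset.sum_congr rfl fun s _ => ?_
  conv_lhs => rw [← hfix s, ← L.act_mat_zero s]
  exact pr_levi h2 hψ _ (L.mat_isSymm 0) u

/-- An operator described on the line by a matrix and an operator on the base. -/
def Line.Form (L : Line n F) (ψ : AddChar F ℂ)
    (ρ : Representation ℂ (symplecticGroup (Fin n) F) V) (A : Module.End ℂ V) (M : Matrix F F ℂ)
    (l : Module.End ℂ V) : Prop :=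
  ∀ s, ∀ c ∈ ev ψ ρ (L.mat 0), A (L.X ρ s c) = ∑ r, M r s • L.X ρ r (l c)

theorem Line.Form.mul {A A' l l' : Module.End ℂ V} {M M' : Matrix F F ℂ}
    (h : L.Form ψ ρ A M l) (h' : L.Form ψ ρ A' M' l')
    (hl : ∀ c ∈ ev ψ ρ (L.mat 0), l' c ∈ ev ψ ρ (L.mat 0)) :
    L.Form ψ ρ (A * A') (M * M') (l * l') := by
  intro s c hc
  rw [Module.End.mul_apply, h' s c hc, map_sum, Module.End.mul_apply]
  calc ∑ t, A (M' t s • L.X ρ t (l' c))
      = ∑ t, ∑ r, (M r t * M' t s) • L.X ρ r (l (l' c)) := by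
        refine Finset.sum_congr rfl fun t _ => ?_
        rw [map_smul, h t (l' c) (hl c hc), Finset.smul_sum]
        exact Finset.sum_congr rfl fun r _ => by rw [smul_smul, mul_comm]
    _ = _ := by
        rw [Finset.sum_comm]
        exact Finset.sum_congr rfl fun r _ => by rw [Matrix.mul_apply, Finset.sum_smul]

theorem Line.form_one [DecidableEq F] : L.Form ψ ρ 1 1 1 := by
  intro s c _
  rw [Finset.sum_eq_single s] <;> simp +contextual [Matrix.one_apply]

include h2 hψ in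
theorem Line.Form.base {A l : Module.End ℂ V} {M : Matrix F F ℂ} (h : L.Form ψ ρ A M l) {c : V}
    (hc : c ∈ ev ψ ρ (L.mat 0)) (hl : l c ∈ ev ψ ρ (L.mat 0)) :
    pr ψ ρ (L.mat 0) (A c) = M 0 0 • l c := by
  classical
  have := h 0 c hc
  rw [L.X_zero] at this
  rw [this, map_sum]
  simp [L.pr_zero_X h2 hψ hl]

omit [Fintype F] in
theorem Line.trace_mat_sjk (r s : F) :
    trace (L.mat r * (sjk L.j L.k s).1) = 2 * L.α * L.v L.k ^ 2 * (r * s) := by
  rw [trace_mul_sjk (L.mat_isSymm r), Line.mat, r1_apply, L.pt_apply, L.pt_apply r L.k, if_pos rfl,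
    if_neg L.hjk.symm]
  ring

/-- The matrix of the Fourier transform. -/
noncomputable def Line.four (L : Line n F) (ψ : AddChar F ℂ) : Matrix F F ℂ :=
  Matrix.of fun r s => ψ (2 * L.α * L.v L.k ^ 2 * (r * s))

theorem Line.form_z [DecidableEq F] (a : F) :
    L.Form ψ ρ (ρ (uu (sjj L.j a)))
      (diagonal fun s => symChar ψ (L.mat s) (sjj L.j a)) 1 := by
  intro s c hc
  rw [Finset.sum_eq_single s]
  · rw [diagonal_apply_eq, Module.End.one_apply, uu_apply_ev (L.X_mem ψ ρ hc s)]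
  · intro r _ hr; rw [diagonal_apply_ne _ hr, zero_smul]
  · simp

include h2 hψ hR in
theorem Line.form_w :
    L.Form ψ ρ (ρ (wj L.j)) (L.four ψ) (pr ψ ρ (L.mat 0) * ρ (wj L.j)) := by
  intro s c hc
  set u := ρ (wj L.j) c with hu
  have hfix : ∀ t, L.X ρ t u = u := by
    intro t
    rw [hu, Line.X, ← Module.End.mul_apply, ← map_mul, Line.T, tv_wj, map_mul,
      Module.End.mul_apply, uu_apply_ev hc, map_smul]
    rw [symChar_apply, L.trace_mat_sjk]
    simp
  have hrel : L.Rel ψ ρ u := L.rel_plane ψ ρ (L.rel_of_mem ψ ρ hc) 0 (-1) 1 0 (by ring)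
  have he := L.fixed_eq h2 hψ hR hrel hfix
  rw [Line.X, ← Module.End.mul_apply, ← map_mul, Line.T, wj_tv, map_mul, Module.End.mul_apply,
    ← hu]
  conv_lhs => rw [he]
  rw [map_sum, Module.End.mul_apply, ← hu]
  refine Finset.sum_congr rfl fun r _ => ?_
  rw [uu_apply_ev (L.X_mem ψ ρ (pr_mem _ _) r)]
  congr 1
  rw [symChar_apply, L.trace_mat_sjk]
  rfl

include h2 hψ hR in
/-- The Weyl element acts on the line by a multiple of the Fourier transform. -/
theorem Line.exists_fourier :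
    ∃ μ : ℂ, μ ≠ 0 ∧ ∀ s, ∀ c ∈ ev ψ ρ (L.mat 0),
      ρ (wj L.j) (L.X ρ s c) = μ • ∑ r, L.four ψ r s • L.X ρ r c := by
  classical
  set l := pr ψ ρ (L.mat 0) * ρ (wj L.j) with hl
  have hmem : ∀ c, l c ∈ ev ψ ρ (L.mat 0) := fun c => pr_mem _ _
  have hlow : ∀ c ∈ ev ψ ρ (L.mat 0), ∀ s,
      ρ (wj L.j) (L.X ρ s c) = ∑ r, L.four ψ r s • L.X ρ r (l c) :=
    fun c hc s => L.form_w h2 hψ hR s c hc
  by_cases hE : ∀ c ∈ ev ψ ρ (L.mat 0), c = 0
  · exact ⟨1, one_ne_zero, fun s c hc => by simp [hE c hc]⟩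
  push Not at hE
  obtain ⟨c₀, hc₀, hne⟩ := hE
  have fw : L.Form ψ ρ (ρ (wj L.j)) (L.four ψ) l := L.form_w h2 hψ hR
  have fz := L.form_z (ψ := ψ) (ρ := ρ) 1
  have hmem' : ∀ c ∈ ev ψ ρ (L.mat 0), l c ∈ ev ψ ρ (L.mat 0) := fun c _ => hmem c
  have hid : ∀ c ∈ ev ψ ρ (L.mat 0), (1 : Module.End ℂ V) c ∈ ev ψ ρ (L.mat 0) := fun c hc => hc
  set D : Matrix F F ℂ := diagonal fun s => symChar ψ (L.mat s) (sjj L.j 1)
  -- the cube
  have f1 : L.Form ψ ρ (ρ (wj L.j * uu (sjj L.j 1))) (L.four ψ * D) l := by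
    rw [map_mul]; simpa using fw.mul L fz hid
  have f3 : L.Form ψ ρ 1 (L.four ψ * D * (L.four ψ * D) * (L.four ψ * D)) (l * l * l) := by
    have := (f1.mul L f1 hmem').mul L f1 hmem'
    rwa [← map_mul, ← map_mul, ← pow_two, ← pow_succ, wz_cube, map_one] at this
  -- the fourth power
  have f4 : L.Form ψ ρ 1 (L.four ψ * L.four ψ * L.four ψ * L.four ψ) (l * l * l * l) := by
    have := ((fw.mul L fw hmem').mul L fw hmem').mul L fw hmem'
    rwa [← map_mul, ← map_mul, ← map_mul, ← pow_two, ← pow_succ, ← pow_succ, wj_pow_four,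
      map_one] at this
  set a := (L.four ψ * D * (L.four ψ * D) * (L.four ψ * D)) 0 0
  set b := (L.four ψ * L.four ψ * L.four ψ * L.four ψ) 0 0
  have ha : ∀ c ∈ ev ψ ρ (L.mat 0), a • (l * l * l) c = c := fun c hc => by
    have := f3.base L h2 hψ hc (hmem _)
    rwa [Module.End.one_apply, pr_self hc, eq_comm] at this
  have hb : ∀ c ∈ ev ψ ρ (L.mat 0), b • (l * l * l * l) c = c := fun c hc => by
    have := f4.base L h2 hψ hc (hmem _)
    rwa [Module.End.one_apply, pr_self hc, eq_comm] at this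
  have ha0 : a ≠ 0 := fun h => hne (by rw [← ha c₀ hc₀, h, zero_smul])
  have hb0 : b ≠ 0 := fun h => hne (by rw [← hb c₀ hc₀, h, zero_smul])
  have hlc : ∀ c ∈ ev ψ ρ (L.mat 0), l c = (a / b) • c := by
    intro c hc
    conv_lhs => rw [← ha c hc, map_smul]
    conv_rhs => rw [← hb c hc]
    rw [smul_smul, div_mul_cancel₀ _ hb0]
    rfl
  refine ⟨a / b, div_ne_zero ha0 hb0, fun s c hc => ?_⟩
  rw [hlow c hc s, hlc c hc, Finset.smul_sum]
  refine Finset.sum_congr rfl fun r _ => ?_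
  rw [map_smul, smul_comm]

variable (ψ ρ) in
/-- The elements preserving the line with trivial action on the base. -/
def Line.Pres (g : symplecticGroup (Fin n) F) : Prop :=
  ∃ M : Matrix F F ℂ, L.Form ψ ρ (ρ g) M 1

theorem Line.pres_mul {g h : symplecticGroup (Fin n) F} (hg : L.Pres ψ ρ g) (hh : L.Pres ψ ρ h) :
    L.Pres ψ ρ (g * h) := by
  obtain ⟨M, hM⟩ := hg
  obtain ⟨M', hM'⟩ := hh
  refine ⟨M * M', ?_⟩
  rw [map_mul]
  simpa using hM.mul L hM' fun c hc => hc

theorem Line.pres_z (a : F) : L.Pres ψ ρ (uu (sjj L.j a)) := by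
  classical
  exact ⟨_, L.form_z a⟩

include h2 hψ hR in
theorem Line.pres_w : L.Pres ψ ρ (wj L.j) := by
  obtain ⟨μ, -, hμ⟩ := L.exists_fourier h2 hψ hR
  refine ⟨μ • L.four ψ, fun s c hc => ?_⟩
  rw [hμ s c hc, Finset.smul_sum]
  refine Finset.sum_congr rfl fun r _ => ?_
  rw [Matrix.smul_apply, smul_smul, Module.End.one_apply]
  rfl

include h2 hψ hR in
theorem Line.pres_diag {d : F} (hd : d ≠ 0) :
    L.Pres ψ ρ (e2 L.j d 0 0 d⁻¹ (by rw [mul_inv_cancel₀ hd]; ring)) := by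
  have hw := L.pres_w h2 hψ hR
  have hw3 : L.Pres ψ ρ (wj L.j * wj L.j * wj L.j) := L.pres_mul (L.pres_mul hw hw) hw
  have hU : L.Pres ψ ρ (e2 L.j 1 (-d) 0 1 (by ring)) := by
    have := L.pres_mul (L.pres_mul hw (L.pres_z (ψ := ψ) (ρ := ρ) d)) hw3
    rw [uu_sjj, wj, e2_mul, e2_mul, e2_mul, e2_mul] at this
    convert this using 1
    exact e2_congr (by ring) (by ring) (by ring) (by ring)
  have := L.pres_mul (L.pres_mul (L.pres_mul hU (L.pres_z (ψ := ψ) (ρ := ρ) d⁻¹)) hU) hw3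
  rw [uu_sjj, wj, e2_mul, e2_mul, e2_mul, e2_mul, e2_mul] at this
  convert this using 1
  exact e2_congr (by field_simp; ring) (by field_simp; ring) (by field_simp; ring)
    (by field_simp; ring)

include h2 hψ in
theorem Line.Pres.scalar {g : symplecticGroup (Fin n) F} (hg : L.Pres ψ ρ g)
    (hE : ∀ c ∈ ev ψ ρ (L.mat 0), ρ g c ∈ ev ψ ρ (L.mat 0)) :
    ∃ μ : ℂ, ∀ c ∈ ev ψ ρ (L.mat 0), ρ g c = μ • c := by
  obtain ⟨M, hM⟩ := hg
  refine ⟨M 0 0, fun c hc => ?_⟩
  rw [← pr_self (hE c hc)]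
  exact hM.base L h2 hψ hc hc

end Cfsg.Agent.Lib.SpOddDeg63
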