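import Cfsg.Agent.Lib.SpOddDeg63.Orbit
import Cfsg.Agent.Lib.SpOddDeg63.Fourier
import Cfsg.Agent.Lib.Weil.Halves
import Cfsg.Agent.Lib.UniDeg48.Eigen

/-!
The two halves of the Weil representation are irreducible, and only rank-one matrices of one
square class occur in them.
-/

set_option autoImplicit false

namespace Cfsg.Agent.Lib.SpOddDeg63

open Matrix Module Cfsg.Agent.Lib.MinDegree Cfsg.Agent.Lib.UniDeg48 Cfsg.Agent.Lib.Weil
open Cfsg.Agent.Lib.Symplectic

variable {n : ℕ} {F : Type*} [Field F] [Fintype F]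

theorem odd_card_three (h2 : (2 : F) ≠ 0) : 3 ≤ Fintype.card F := by
  by_contra hlt
  push Not at hlt
  have h1 := Fintype.one_lt_card (α := F)
  have hq2 : Fintype.card F = 2 := by omega
  have := FiniteField.cast_card_eq_zero F
  rw [hq2] at this
  exact h2 (by exact_mod_cast this)

/-- The spectrum bound. -/
theorem rankOne_or_bound {V : Type*} [AddCommGroup V] [Module ℂ V] [FiniteDimensional ℂ V]
    {ψ : AddChar F ℂ} {ρ : Representation ℂ (symplecticGroup (Fin n) F) V} (h2 : (2 : F) ≠ 0)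
    (hψ : ψ 1 ≠ 1)
    (hsmall : 2 * (Fintype.card F + 1) * finrank ℂ V <
      (Fintype.card F ^ n - 1) * (Fintype.card F ^ n - Fintype.card F)) : RankOne ψ ρ := by
  intro S hS hne
  by_contra hcon
  push Not at hcon
  let O : Set (Matrix (Fin n) (Fin n) F) := {T | T.IsSymm ∧ ev ψ ρ T ≠ ⊥}
  have h := orbit_bound h2 hS hcon O ⟨hS, hne⟩ (by
    rintro a T ⟨hT, hTne⟩
    refine ⟨act_isSymm a hT, ?_⟩
    obtain ⟨v, hv, hv0⟩ := Submodule.exists_mem_ne_zero_of_ne_bot hTne
    refine Submodule.ne_bot_iff _ |>.2 ⟨_, levi_mem_ev a hv, fun h => hv0 ?_⟩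
    rw [← rho_inv_cancel (leviSp n F a) v, h, map_zero])
  have hcard : Nat.card O ≤ finrank ℂ V := by
    refine le_trans ?_ (card_le_finrank ρ (lowerUni n F) {χ | Occurs ρ (lowerUni n F) χ} fun _ h => h)
    refine Nat.card_le_card_of_injective
      (fun T => ⟨symChar ψ T.1, (occurs_iff_eigSub ρ _).2 T.2.2⟩) ?_
    intro T T' hTT
    exact Subtype.ext (symChar_inj ψ h2 hψ T.2.1 T'.2.1 (congrArg Subtype.val hTT))
  have := Nat.mul_le_mul_left (2 * (Fintype.card F + 1)) hcard
  omega

theorem half_small (h2 : (2 : F) ≠ 0) (hn : 2 ≤ n) {d : ℕ}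
    (hd : 2 * d ≤ Fintype.card F ^ n + 1) :
    2 * (Fintype.card F + 1) * d <
      (Fintype.card F ^ n - 1) * (Fintype.card F ^ n - Fintype.card F) := by
  have hq := odd_card_three h2
  have h9 : Fintype.card F * Fintype.card F ≤ Fintype.card F ^ n := by
    rw [← pow_two]; exact Nat.pow_le_pow_right (by omega) hn
  generalize Fintype.card F ^ n = Q at *
  generalize Fintype.card F = q at *
  obtain ⟨a, rfl⟩ : ∃ a, q = a + 3 := ⟨q - 3, by omega⟩
  obtain ⟨b, hb⟩ : ∃ b, Q = (a + 3) * (a + 3) + b := ⟨Q - (a + 3) * (a + 3), by omega⟩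
  have e1 : Q - 1 = (a + 3) * (a + 2) + (a + 2) + b := by
    have : (a + 3) * (a + 3) = (a + 3) * (a + 2) + (a + 2) + 1 := by ring
    omega
  have e2 : Q - (a + 3) = (a + 3) * (a + 2) + b := by
    have : (a + 3) * (a + 3) = (a + 3) * (a + 2) + (a + 3) := by ring
    omega
  have hd' := Nat.mul_le_mul_left (a + 3 + 1) hd
  rw [e1, e2]
  nlinarith [Nat.zero_le (a * a), Nat.zero_le (a * b), Nat.zero_le (b * b),
    Nat.zero_le (a * a * a), Nat.zero_le (a * a * a * a), Nat.zero_le (a * a * b)]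

omit [Fintype F] in
theorem mulVec_wJ_univ (b : Fin n → F) :
    (wJ (Finset.univ : Finset (Fin n))).1 *ᵥ Sum.elim 0 b = Sum.elim (-b) 0 := by
  rw [wJ, dsl_coe, fromBlocks_mulVec]
  congr 1 <;> funext i <;> simp [mulVec_diagonal]

omit [Fintype F] in
theorem r1_inj_sign {c : F} (hc : c ≠ 0) {x y : Fin n → F} (h : r1 c x = r1 c y) :
    y = x ∨ y = -x := by
  have key : ∀ p r, x p * x r = y p * y r := fun p r => by
    have := congrFun (congrFun h p) r
    rw [r1_apply, r1_apply] at this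
    exact mul_left_cancel₀ hc this
  by_cases hx : x = 0
  · left
    funext p
    have := key p p
    rw [hx] at this ⊢
    simpa using this.symm
  obtain ⟨p, hp⟩ := Function.ne_iff.1 hx
  rcases mul_self_eq_mul_self_iff.1 (key p p) with hh | hh
  · left; funext r
    refine mul_left_cancel₀ hp ?_
    rw [key p r, hh]
  · right; funext r
    refine mul_left_cancel₀ hp ?_
    rw [Pi.neg_apply, mul_neg, key p r, hh]; ring

variable (ψ : AddChar F ℂ)

/-- A linearised Weil representation. -/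
structure WeilData (n : ℕ) (F : Type*) [Field F] [Fintype F] (ψ : AddChar F ℂ) where
  /-- The operators. -/
  W : symplecticGroup (Fin n) F →* Module.End ℂ (Fn n F)
  int : ∀ A, IsInt ψ A (W A)
  comm : ∀ A, Commute (parity n F) (W A)

variable {ψ}

/-- One half as a representation. -/
noncomputable def WeilData.rep (D : WeilData n F ψ) (ε : ℂ) :
    Representation ℂ (symplecticGroup (Fin n) F) (half n F ε) := halfRep D.W D.comm ε

variable (h2 : (2 : F) ≠ 0) (hψ : ψ 1 ≠ 1)

include h2 hψ in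
theorem exists_neg_parity (D : WeilData n F ψ) :
    ∃ k : ℂ, (k = 1 ∨ k = -1) ∧ D.W (leviSp n F (-1)) = k • parity n F := by
  classical
  have hu : IsUnit (parity n F) := ⟨⟨_, _, parity_sq, parity_sq⟩, rfl⟩
  have he : (leviSp n F (-1)).1 = -1 := by
    rw [levi_coe, inv_neg, inv_one, Units.val_neg, Units.val_one, transpose_neg, transpose_one,
      ← fromBlocks_one, fromBlocks_neg, neg_zero]
  have hi : IsInt ψ (leviSp n F (-1)) (parity n F) := fun v => by
    rw [he, neg_mulVec, one_mulVec, parity_heis]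
  obtain ⟨k, hk⟩ := int_unique ψ hψ hu hi (D.int (leviSp n F (-1)))
  refine ⟨k, ?_, hk⟩
  have h := congrArg D.W (show leviSp n F (-1) * leviSp n F (-1) = 1 by
    rw [← map_mul, neg_mul_neg, one_mul, map_one])
  rw [map_mul, map_one, hk, smul_mul_smul_comm, parity_sq] at h
  have := congrFun (LinearMap.congr_fun h (fun _ => (1 : ℂ))) 0
  simp only [LinearMap.smul_apply, Module.End.one_apply, Pi.smul_apply, smul_eq_mul, mul_one] at this
  exact mul_self_eq_one_iff.1 this

omit [Fintype F] in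
theorem quadMul_apply (B : Matrix (Fin n) (Fin n) F) (f : Fn n F) (x : Fin n → F) :
    quadMul ψ B f x = ψ (-((2 : F)⁻¹ * (x ⬝ᵥ (B *ᵥ x)))) * f x := rfl

/-- The symmetrised point mass. -/
noncomputable def pointFn (ε : ℂ) (x : Fin n → F) [DecidableEq (Fin n → F)] : Fn n F :=
  Pi.single x 1 + ε • Pi.single (-x) 1

theorem pointFn_mem {ε : ℂ} (hε : ε * ε = 1) (x : Fin n → F) [DecidableEq (Fin n → F)] :
    pointFn ε x ∈ half n F ε := by
  rw [mem_half]
  funext y
  rw [parity_apply]
  simp only [pointFn, Pi.add_apply, Pi.smul_apply, smul_eq_mul, Pi.single_apply, neg_eq_iff_eq_neg,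
    neg_neg]
  have h : (if y = -x then (1 : ℂ) else 0) * (ε * ε) = if y = -x then 1 else 0 := by
    rw [hε, mul_one]
  linear_combination -h

include h2 hψ in
/-- The unipotents act by multiplication. -/
theorem weil_uu (hn : 2 ≤ n) (D : WeilData n F ψ) (B : symMats n F) :
    D.W (uu B) = quadMul ψ B.1 := by
  classical
  have hq : ∀ B : symMats n F, ∃ k : ℂ, D.W (uu B) = k • quadMul ψ B.1 := by
    intro B
    have hu : IsUnit (quadMul ψ B.1) := by
      have hmul : ∀ M : Matrix (Fin n) (Fin n) F, quadMul ψ M * quadMul ψ (-M) = 1 := fun M => by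
        refine LinearMap.ext fun f => funext fun x => ?_
        rw [Module.End.mul_apply, quadMul_apply, quadMul_apply, neg_mulVec, dotProduct_neg, mul_neg,
          neg_neg, ← mul_assoc, ← AddChar.map_add_eq_mul, neg_add_cancel, AddChar.map_zero_eq_one,
          one_mul]
        rfl
      exact ⟨⟨_, _, hmul B.1, by simpa using hmul (-B.1)⟩, rfl⟩
    exact int_unique ψ hψ hu (isInt_quadMul ψ h2 B.2 (uu_coe B)) (D.int (uu B))
  choose k hk using hq
  have hev : ∀ A f, D.W (uu A) f = k A • quadMul ψ A.1 f := fun A f => by rw [hk A]; rfl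
  have hat : ∀ A, D.W (uu A) (Pi.single 0 1) 0 = k A := fun A => by
    rw [hev, Pi.smul_apply, quadMul_apply]; simp
  let χ : AddChar (symMats n F) ℂ :=
    { toFun := k
      map_zero_eq_one' := by rw [← hat, uu_zero, map_one]; simp
      map_add_eq_mul' := fun A B => by
        rw [← hat (A + B), uu_add, map_mul, Module.End.mul_apply, hev A, Pi.smul_apply,
          quadMul_apply, hat B]
        simp }
  obtain ⟨S0, hS0, hS0χ⟩ := symChar_surjective h2 hψ χ
  -- the even half
  have hsmall : 2 * (Fintype.card F + 1) * finrank ℂ (half n F (1 : ℂ)) <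
      (Fintype.card F ^ n - 1) * (Fintype.card F ^ n - Fintype.card F) := by
    refine half_small h2 hn ?_
    have := finrank_half (n := n) (F := F) h2 (Or.inl rfl : (1 : ℂ) = 1 ∨ _)
    have h' : ((finrank ℂ (half n F (1 : ℂ)) * 2 : ℕ) : ℂ) = ((Fintype.card F ^ n + 1 : ℕ) : ℂ) := by
      push_cast; exact this
    have := Nat.cast_injective h'
    omega
  have hR := rankOne_or_bound (ψ := ψ) (ρ := D.rep 1) h2 hψ hsmall
  have hmem : ∀ x : Fin n → F,
      (⟨pointFn 1 x, pointFn_mem (one_mul 1) x⟩ : half n F (1 : ℂ)) ∈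
        ev ψ (D.rep 1) (S0 + r1 (-(2 : F)⁻¹) x) := by
    intro x
    rw [mem_ev]
    intro A
    refine Subtype.ext ?_
    show D.W (uu A) (pointFn 1 x) = symChar ψ _ A • pointFn 1 x
    rw [hev]
    funext y
    rw [Pi.smul_apply, Pi.smul_apply, quadMul_apply, symChar_apply, Matrix.add_mul, trace_add,
      AddChar.map_add_eq_mul, ← symChar_apply, hS0χ, trace_r1, smul_eq_mul, smul_eq_mul]
    show k A * _ = k A * _ * _
    by_cases hy : pointFn 1 x y = 0
    · rw [hy]; ring
    have hxy : y = x ∨ y = -x := by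
      by_contra h
      push Not at h
      exact hy (by simp [pointFn, h.1, h.2])
    have : y ⬝ᵥ (A.1 *ᵥ y) = x ⬝ᵥ (A.1 *ᵥ x) := by
      rcases hxy with rfl | rfl
      · rfl
      · simp [mulVec_neg]
    rw [this, neg_mul]
    ring
  have hne : ∀ x : Fin n → F, ev ψ (D.rep 1) (S0 + r1 (-(2 : F)⁻¹) x) ≠ ⊥ := fun x => by
    refine Submodule.ne_bot_iff _ |>.2 ⟨_, hmem x, fun h => ?_⟩
    have := congrFun (congrArg Subtype.val h) x
    simp only [pointFn, Pi.add_apply, Pi.smul_apply, Pi.single_eq_same, smul_eq_mul, one_mul,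
      ZeroMemClass.coe_zero, Pi.zero_apply] at this
    rcases eq_or_ne x (-x) with h' | h'
    · rw [← h', Pi.single_eq_same] at this; norm_num at this
    · rw [Pi.single_eq_of_ne h'] at this; norm_num at this
  obtain ⟨b, v, hbv⟩ := hR _ (hS0.add (r1_isSymm _ 0)) (hne 0)
  have hz : r1 (-(2 : F)⁻¹) (0 : Fin n → F) = 0 := by simp [r1]
  rw [hz, add_zero] at hbv
  have hS00 : S0 = 0 := by
    by_contra h0
    have hb : b ≠ 0 := fun h => h0 (by rw [hbv, h]; simp [r1])
    have hv : v ≠ 0 := fun h => h0 (by rw [hbv, h]; simp [r1])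
    obtain ⟨p, hp⟩ := Function.ne_iff.1 hv
    have : Nontrivial (Fin n) := Fin.nontrivial_iff_two_le.2 hn
    obtain ⟨r, hrp⟩ := exists_ne p
    obtain ⟨b', y, hy⟩ := hR _ (hS0.add (r1_isSymm _ _)) (hne (Pi.single r 1))
    have e := fun i l => congrFun (congrFun hy i) l
    have epp := e p p
    have err := e r r
    have epr := e p r
    simp only [hbv, Matrix.add_apply, r1_apply, Pi.single_eq_same, Pi.single_eq_of_ne hrp.symm,
      mul_zero, zero_mul, add_zero, mul_one] at epp err epr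
    refine mul_ne_zero (mul_ne_zero hb (mul_ne_zero hp hp)) (inv_ne_zero h2) ?_
    linear_combination (-(b * (v r * v r) + -(2 : F)⁻¹)) * epp - (b' * (y p * y p)) * err +
      (b * (v p * v r) + b' * (y p * y r)) * epr
  rw [hk B]
  have : k B = 1 := by
    show χ B = 1
    rw [← hS0χ, hS00, symChar_apply, Matrix.zero_mul, trace_zero, AddChar.map_zero_eq_one]
  rw [this, one_smul]

/-- What is needed about a half. -/
structure GoodHalf (n : ℕ) (F : Type*) [Field F] [Fintype F] (ψ : AddChar F ℂ)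
    {V : Type*} [AddCommGroup V] [Module ℂ V]
    (ρ : Representation ℂ (symplecticGroup (Fin n) F) V) : Prop where
  irr : ρ.IsIrreducible
  rank : RankOne ψ ρ
  occur : ∀ x : Fin n → F, x ≠ 0 → ev ψ ρ (r1 (-(2 : F)⁻¹) x) ≠ ⊥
  class' : ∀ S : Matrix (Fin n) (Fin n) F, S.IsSymm → ev ψ ρ S ≠ ⊥ →
    ∃ x, S = r1 (-(2 : F)⁻¹) x

include h2 hψ in
theorem good_half (hn : 2 ≤ n) (D : WeilData n F ψ) {ε : ℂ} (hε : ε = 1 ∨ ε = -1) :
    GoodHalf n F ψ (D.rep ε) := by
  classical
  have hεε : ε * ε = 1 := by rcases hε with rfl | rfl <;> norm_num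
  have hW := weil_uu h2 hψ hn D
  set c0 : F := -(2 : F)⁻¹ with hc0def
  have hc0 : c0 ≠ 0 := neg_ne_zero.2 (inv_ne_zero h2)
  set ρ := D.rep ε with hρ
  have hcoe : ∀ g (f : half n F ε), (ρ g f).1 = D.W g f.1 := fun g f => rfl
  have hact : ∀ B (f : Fn n F) y, D.W (uu B) f y = symChar ψ (r1 c0 y) B * f y := by
    intro B f y
    rw [hW, quadMul_apply, symChar_apply, trace_r1, hc0def, neg_mul]
  -- support of eigenvectors
  have hsupp : ∀ {S : Matrix (Fin n) (Fin n) F}, S.IsSymm → ∀ {f : half n F ε},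
      f ∈ ev ψ ρ S → ∀ y, f.1 y ≠ 0 → S = r1 c0 y := by
    intro S hS f hf y hy
    refine symChar_inj ψ h2 hψ hS (r1_isSymm _ _) ?_
    ext B
    have := congrFun (congrArg Subtype.val (mem_ev.1 hf B)) y
    rw [hcoe, hact] at this
    exact (mul_right_cancel₀ hy this).symm
  have hrank' : ∀ S : Matrix (Fin n) (Fin n) F, S.IsSymm → ev ψ ρ S ≠ ⊥ → ∃ x, S = r1 c0 x := by
    intro S hS hne
    obtain ⟨f, hf, hf0⟩ := Submodule.exists_mem_ne_zero_of_ne_bot hne
    obtain ⟨y, hy⟩ := Function.ne_iff.1 (fun h => hf0 (Subtype.ext h) : f.1 ≠ 0)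
    exact ⟨y, hsupp hS hf y hy⟩
  let pf : (Fin n → F) → half n F ε := fun x => ⟨pointFn ε x, pointFn_mem hεε x⟩
  have hpf_self : ∀ x : Fin n → F, x ≠ 0 → (pf x).1 x = 1 := fun x hx => by
    have : x ≠ -x := fun h => hx (two_ne_zero_neg h2 h.symm)
    simp [pf, pointFn, Pi.single_eq_of_ne this]
  have hpf_mem : ∀ x, pf x ∈ ev ψ ρ (r1 c0 x) := by
    intro x
    rw [mem_ev]
    intro B
    refine Subtype.ext (funext fun y => ?_)
    rw [hcoe, hact]
    show _ = symChar ψ (r1 c0 x) B * (pf x).1 y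
    by_cases hy : (pf x).1 y = 0
    · rw [hy, mul_zero, mul_zero]
    have hxy : y = x ∨ y = -x := by
      by_contra h
      push Not at h
      exact hy (by simp [pf, pointFn, h.1, h.2])
    rcases hxy with rfl | rfl
    · rfl
    · congr 1
      rw [symChar_apply, symChar_apply, trace_r1, trace_r1]
      simp [mulVec_neg]
  have hocc : ∀ x : Fin n → F, x ≠ 0 → ev ψ ρ (r1 c0 x) ≠ ⊥ := fun x hx =>
    Submodule.ne_bot_iff _ |>.2 ⟨pf x, hpf_mem x, fun h => one_ne_zero
      ((hpf_self x hx).symm.trans (congrFun (congrArg Subtype.val h) x))⟩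
  -- the point mass at zero is not preserved
  have hdelta : ¬ ∀ g, ∀ f : Fn n F, f 0 = 0 → D.W g f 0 = 0 := by
    intro h
    have hn0 : 0 < n := by omega
    set b : Fin n → F := Pi.single ⟨0, hn0⟩ 1 with hb
    set g : symplecticGroup (Fin n) F := wJ (Finset.univ : Finset (Fin n)) with hg
    have hgg := D.int g (Sum.elim 0 b)
    rw [hg, mulVec_wJ_univ, ← hg] at hgg
    set a : Fin n → F := -b
    set f : Fn n F := Pi.single a 1 with hf
    have hb0 : b ≠ 0 := by simp [hb]
    have hfa : f 0 = 0 := Pi.single_eq_of_ne (by simp [a, hb0, eq_comm]) _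
    have h1 := h g⁻¹ f hfa
    have h2' : heis ψ (Sum.elim 0 b) (D.W g⁻¹ f) 0 = 0 := by
      rw [heis_apply, Sum.elim_comp_inl, add_zero, h1, mul_zero]
    have h3 := h g _ h2'
    rw [← Module.End.mul_apply, show D.W g * heis ψ (Sum.elim 0 b) =
      heis ψ (Sum.elim a 0) * D.W g from hgg.symm, Module.End.mul_apply, ← Module.End.mul_apply
      (D.W g), ← map_mul, mul_inv_cancel, map_one, Module.End.one_apply, heis_apply,
      Sum.elim_comp_inl, Sum.elim_comp_inr, zero_add] at h3
    simp [hf] at h3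
  refine ⟨?_, fun S hS hne => ⟨c0, (hrank' S hS hne).choose, (hrank' S hS hne).choose_spec⟩,
    hocc, hrank'⟩
  -- irreducibility
  have hnt : Nontrivial (Subrepresentation ρ) := by
    refine ⟨⟨⊥, ⊤, fun h => ?_⟩⟩
    have hn0 : 0 < n := by omega
    have hx : (Pi.single ⟨0, hn0⟩ 1 : Fin n → F) ≠ 0 := by simp
    have hmem : pf (Pi.single ⟨0, hn0⟩ 1) ∈ (⊥ : Subrepresentation ρ).toSubmodule := by
      rw [h]; trivial
    have := congrFun (congrArg Subtype.val ((Submodule.mem_bot ℂ).1 hmem)) (Pi.single ⟨0, hn0⟩ 1)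
    rw [hpf_self _ hx] at this
    exact one_ne_zero this
  refine ⟨fun U => ?_⟩
  by_cases hU : U.toSubmodule = ⊥
  · exact Or.inl (Subrepresentation.toSubmodule_injective hU)
  right
  refine Subrepresentation.toSubmodule_injective ?_
  show U.toSubmodule = ⊤
  set K := U.toSubmodule with hK
  have hKinv : ∀ g, ∀ f ∈ K, ρ g f ∈ K := fun g f hf => U.apply_mem_toSubmodule g hf
  -- vectors supported at zero
  have hzero : ¬ ∀ f ∈ K, ∀ y, y ≠ 0 → f.1 y = 0 := by
    intro h
    obtain ⟨f, hf, hf0⟩ := Submodule.exists_mem_ne_zero_of_ne_bot hU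
    have hval : f.1 0 ≠ 0 := fun h0 => hf0 (Subtype.ext (funext fun y => by
      rcases eq_or_ne y 0 with rfl | hy
      · exact h0
      · exact h f hf y hy))
    have hline : ∀ g, ∀ u : Fn n F, (∀ y, y ≠ 0 → u y = 0) → ∀ y, y ≠ 0 → D.W g u y = 0 := by
      intro g u hu y hy
      have e : u = (u 0 / f.1 0) • f.1 := funext fun z => by
        rcases eq_or_ne z 0 with rfl | hz
        · rw [Pi.smul_apply, smul_eq_mul, div_mul_cancel₀ _ hval]
        · rw [Pi.smul_apply, hu z hz, h f hf z hz, smul_zero]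
      rw [e, map_smul, Pi.smul_apply, ← hcoe g f, h _ (hKinv g f hf) y hy, smul_zero]
    have hn0 : 0 < n := by omega
    set b : Fin n → F := Pi.single ⟨0, hn0⟩ 1 with hb
    set g : symplecticGroup (Fin n) F := wJ (Finset.univ : Finset (Fin n)) with hg
    have hgg := D.int g (Sum.elim 0 b)
    rw [hg, mulVec_wJ_univ, ← hg] at hgg
    set d : Fn n F := Pi.single 0 1 with hd
    have hdd : ∀ y, y ≠ 0 → d y = 0 := fun y hy => Pi.single_eq_of_ne hy _
    have hv : heis ψ (Sum.elim 0 b) d = d := funext fun y => by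
      rw [heis_apply, Sum.elim_comp_inl, Sum.elim_comp_inr]
      rcases eq_or_ne y 0 with rfl | hy
      · simp
      · simp [hdd y hy]
    have hz : ∀ u : Fn n F, (∀ y, y ≠ 0 → u y = 0) → u 0 = heis ψ (Sum.elim (-b) 0) u 0 := by
      intro u hu
      have e1 : D.W g⁻¹ u = (D.W g⁻¹ u 0) • d := funext fun z => by
        rcases eq_or_ne z 0 with rfl | hz
        · simp [hd]
        · rw [hline g⁻¹ u hu z hz, Pi.smul_apply, hdd z hz, smul_zero]
      have e2 : D.W g (heis ψ (Sum.elim 0 b) (D.W g⁻¹ u)) = u := by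
        rw [e1, map_smul, hv, ← e1, ← Module.End.mul_apply, ← map_mul, mul_inv_cancel, map_one,
          Module.End.one_apply]
      conv_lhs => rw [← e2]
      rw [← Module.End.mul_apply, show D.W g * heis ψ (Sum.elim 0 b) =
        heis ψ (Sum.elim (-b) 0) * D.W g from hgg.symm, Module.End.mul_apply,
        ← Module.End.mul_apply (D.W g), ← map_mul, mul_inv_cancel, map_one, Module.End.one_apply]
    have := hz d hdd
    rw [heis_apply, Sum.elim_comp_inl, Sum.elim_comp_inr, zero_add, hdd (-b) (by simp [hb])] at this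
    simp [hd] at this
  push Not at hzero
  obtain ⟨f, hf, x, hx, hfx⟩ := hzero
  -- all points
  have hpr : ∀ (S : Matrix (Fin n) (Fin n) F), ∀ u ∈ K, pr ψ ρ S u ∈ K := fun S u hu => by
    rw [pr, eigenProj_apply]
    exact K.smul_mem _ (K.sum_mem fun A _ => K.smul_mem _ (hKinv _ u hu))
  have hprval : ∀ (u : half n F ε) (y : Fin n → F), (pr ψ ρ (r1 c0 y) u).1 y = u.1 y := by
    intro u y
    rw [pr, eigenProj_apply, Submodule.coe_smul, Submodule.coe_sum, Pi.smul_apply, Finset.sum_apply]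
    simp only [Submodule.coe_smul, Pi.smul_apply, hcoe, smul_eq_mul]
    have hact' : ∀ A : symMats n F,
        symChar ψ (r1 c0 y) (-A) * D.W (lowerUni n F (Multiplicative.ofAdd A)) u.1 y = u.1 y :=
      fun A => by
        rw [show D.W (lowerUni n F (Multiplicative.ofAdd A)) u.1 y = symChar ψ (r1 c0 y) A * u.1 y
          from hact A u.1 y, ← mul_assoc, ← AddChar.map_add_eq_mul, neg_add_cancel,
          AddChar.map_zero_eq_one, one_mul]
    rw [Finset.sum_congr rfl fun A _ => hact' A, Finset.sum_const, Finset.card_univ, nsmul_eq_mul,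
      ← mul_assoc, inv_mul_cancel₀ (Nat.cast_ne_zero.2 Fintype.card_ne_zero), one_mul]
  have hone : ∀ y, y ≠ 0 → ∀ u ∈ ev ψ ρ (r1 c0 y), u = u.1 y • pf y := by
    intro y hy u hu
    refine Subtype.ext (funext fun z => ?_)
    rw [Submodule.coe_smul, Pi.smul_apply, smul_eq_mul]
    by_cases hz : z = y ∨ z = -y
    · rcases hz with rfl | rfl
      · rw [hpf_self _ hy, mul_one]
      · have e1 := congrFun (mem_half.1 u.2) y
        have e2 := congrFun (mem_half.1 (pf y).2) y
        rw [parity_apply, Pi.smul_apply, smul_eq_mul] at e1 e2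
        rw [e1, e2, hpf_self _ hy]; ring
    · push Not at hz
      have h0 : u.1 z = 0 := by
        by_contra h0
        rcases r1_inj_sign hc0 (hsupp (r1_isSymm _ _) hu z h0) with e | e
        · exact hz.1 e
        · exact hz.2 e
      rw [h0, show (pf y).1 z = 0 by simp [pf, pointFn, hz.1, hz.2], mul_zero]
  have hfx' : pf x ∈ K := by
    have h := hpr (r1 c0 x) f hf
    rw [hone x hx _ (pr_mem _ _), hprval] at h
    exact (K.smul_mem_iff hfx).1 h
  have hall : ∀ y, y ≠ 0 → pf y ∈ K := by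
    intro y hy
    obtain ⟨a, ha⟩ := exists_gl_vec hx hy
    have hm := levi_mem_ev a (hpf_mem x)
    rw [act_r1, ha] at hm
    have h := hKinv (leviSp n F a) _ hfx'
    rw [hone y hy _ hm] at h
    refine (K.smul_mem_iff fun h0 => ?_).1 h
    have h1 := congrArg (ρ (leviSp n F a)⁻¹) (hone y hy _ hm)
    rw [h0, zero_smul, map_zero, rho_inv_cancel] at h1
    exact one_ne_zero ((hpf_self x hx).symm.trans (congrFun (congrArg Subtype.val h1) x))
  have hH : ∀ u : half n F ε, u.1 0 = 0 → u ∈ K := by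
    intro u hu
    have e : u = ∑ y : Fin n → F, ((2 : ℂ)⁻¹ * u.1 y) • pf y := by
      refine Subtype.ext (funext fun z => ?_)
      rw [Submodule.coe_sum, Finset.sum_apply]
      simp only [Submodule.coe_smul, Pi.smul_apply, smul_eq_mul, pf, pointFn, Pi.add_apply,
        Pi.single_apply, mul_add, mul_ite, mul_one, mul_zero, Finset.sum_add_distrib,
        Finset.sum_ite_eq, Finset.mem_univ, if_true]
      rw [Finset.sum_eq_single (-z)]
      · have e1 := congrFun (mem_half.1 u.2) z
        rw [parity_apply, Pi.smul_apply, smul_eq_mul] at e1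
        rw [neg_neg, if_pos rfl, e1]
        linear_combination (-(2 : ℂ)⁻¹ * u.1 z) * hεε
      · intro w _ hw; rw [if_neg]; exact fun h => hw (by rw [h, neg_neg])
      · simp
    rw [e]
    refine K.sum_mem fun y _ => ?_
    rcases eq_or_ne y 0 with rfl | hy
    · rw [hu, mul_zero, zero_smul]; exact K.zero_mem
    · exact K.smul_mem _ (hall y hy)
  rw [eq_top_iff]
  rintro u -
  by_cases hfull : ∃ w ∈ K, w.1 0 ≠ 0
  · obtain ⟨w, hw, hw0⟩ := hfull
    have h' := hH (u - (u.1 0 / w.1 0) • w) (by simp [div_mul_cancel₀ _ hw0])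
    simpa using K.add_mem h' (K.smul_mem (u.1 0 / w.1 0) hw)
  push Not at hfull
  rcases hε with rfl | rfl
  swap
  · refine hH u ?_
    have e1 := congrFun (mem_half.1 u.2) 0
    rw [parity_apply, neg_zero, Pi.smul_apply, smul_eq_mul] at e1
    linear_combination e1 / 2
  refine absurd (fun g f0 hf0 => ?_) hdelta
  -- split into even and odd parts
  set fe : Fn n F := f0 + parity n F f0 with hfe
  have hfeh : fe ∈ half n F (1 : ℂ) := by
    rw [mem_half, one_smul, hfe, map_add, ← Module.End.mul_apply, parity_sq, Module.End.one_apply,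
      add_comm]
  have h1 := hfull _ (hKinv g _ (hH ⟨fe, hfeh⟩ (by simp [hfe, parity_apply, hf0])))
  rw [hcoe] at h1
  change D.W g (f0 + parity n F f0) 0 = 0 at h1
  rw [map_add, ← Module.End.mul_apply, ← (D.comm g).eq, Module.End.mul_apply, Pi.add_apply,
    parity_apply, neg_zero] at h1
  linear_combination h1 / 2

end Cfsg.Agent.Lib.SpOddDeg63
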