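import Cfsg.Agent.Lib.SpOddDeg63.Uniqueness
import Cfsg.Agent.Lib.SpOddDeg63.WeilHalves

/-!
The irreducible characters of `Sp_{2n}(q)`, `q` odd, of degree below the gap are the trivial one and
the four Weil characters.
-/

set_option autoImplicit false

namespace Cfsg.Agent.Lib.SpOddDeg63

open Matrix Module Cfsg.Agent.Lib.MinDegree Cfsg.Agent.Lib.UniDeg48 Cfsg.Agent.Lib.Weil

variable {n : ℕ} {F : Type*} [Field F] [Fintype F]

omit [Fintype F] in
theorem symChar_mulShift (ψ : AddChar F ℂ) (ν : F) (S : Matrix (Fin n) (Fin n) F) :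
    symChar (ψ.mulShift ν) S = symChar ψ (ν • S) := by
  ext B
  rw [symChar_apply, symChar_apply, Matrix.smul_mul, trace_smul, smul_eq_mul, AddChar.mulShift_apply]

omit [Fintype F] in
theorem smul_r1 (ν b : F) (y : Fin n → F) : ν • r1 b y = r1 (ν * b) y := by
  rw [r1, r1, smul_smul]

omit [Fintype F] in
theorem r1_rescale (b t : F) (y : Fin n → F) : r1 (b * t ^ 2) y = r1 b (t • y) := by
  ext i l
  simp only [r1_apply, Pi.smul_apply, smul_eq_mul]
  ring

/-- A small irreducible representation with one square class of rank-one matrices. -/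
structure SmallRep (n : ℕ) (F : Type*) [Field F] [Fintype F] (ψ : AddChar F ℂ) (c : F) (ε : ℂ)
    {V : Type*} [AddCommGroup V] [Module ℂ V]
    (ρ : Representation ℂ (symplecticGroup (Fin n) F) V) : Prop where
  irr : ρ.IsIrreducible
  rank : RankOne ψ ρ
  occur : ∀ x : Fin n → F, x ≠ 0 → ev ψ ρ (r1 c x) ≠ ⊥
  class' : ∀ S : Matrix (Fin n) (Fin n) F, S.IsSymm → ev ψ ρ S ≠ ⊥ → ∃ x, S = r1 c x
  neg : ∀ v, ρ (leviSp n F (-1)) v = ε • v

variable (n) in
/-- A character of a small representation. -/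
def IsWeilChar (ψ : AddChar F ℂ) (c : F) (b : Bool) (χ : Cfsg.IrrCharacter (symplecticGroup (Fin n) F)) :
    Prop :=
  (χ.1 1 = (((Fintype.card F) ^ n + 1 : ℕ) : ℂ) / 2 ∧ b = true ∨
    χ.1 1 = (((Fintype.card F) ^ n - 1 : ℕ) : ℂ) / 2 ∧ b = false) ∧
  ∃ (k : ℕ) (ρ : Representation ℂ (symplecticGroup (Fin n) F) (Fin k → ℂ)) (ε : ℂ),
    SmallRep n F ψ c ε ρ ∧ ρ.character = χ.1

theorem deg_plus_ne_minus (hq : 1 ≤ Fintype.card F ^ n) :
    (((Fintype.card F) ^ n + 1 : ℕ) : ℂ) / 2 ≠ (((Fintype.card F) ^ n - 1 : ℕ) : ℂ) / 2 := by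
  intro h
  have h' : (((Fintype.card F) ^ n + 1 : ℕ) : ℂ) = (((Fintype.card F) ^ n - 1 : ℕ) : ℂ) := by
    linear_combination 2 * h
  have := Nat.cast_injective h'
  omega

theorem finrank_ev_formula {U : Type*} [AddCommGroup U] [Module ℂ U] [FiniteDimensional ℂ U]
    (ψ : AddChar F ℂ) (π : Representation ℂ (symplecticGroup (Fin n) F) U)
    (S : Matrix (Fin n) (Fin n) F) :
    (finrank ℂ (ev ψ π S) : ℂ) = (Fintype.card (symMats n F) : ℂ)⁻¹ *
      ∑ A : symMats n F, symChar ψ S (-A) * π.character (uu A) := by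
  have hp : LinearMap.IsProj (ev ψ π S) (pr ψ π S) :=
    ⟨fun v => pr_mem S v, fun v hv => pr_self hv⟩
  rw [← hp.trace, pr, eigenProj]
  simp [map_sum, Representation.character]

theorem finrank_ev_eq {V W : Type*} [AddCommGroup V] [Module ℂ V] [FiniteDimensional ℂ V]
    [AddCommGroup W] [Module ℂ W] [FiniteDimensional ℂ W] (ψ : AddChar F ℂ)
    {ρ : Representation ℂ (symplecticGroup (Fin n) F) V}
    {σ : Representation ℂ (symplecticGroup (Fin n) F) W} (h : ρ.character = σ.character)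
    (S : Matrix (Fin n) (Fin n) F) : finrank ℂ (ev ψ ρ S) = finrank ℂ (ev ψ σ S) := by
  have h1 := finrank_ev_formula ψ ρ S
  rw [h, ← finrank_ev_formula ψ σ S] at h1
  exact_mod_cast h1

/-- A multiple of a given element by a square is outside the kernel of a character. -/
theorem exists_sq_mul_char_ne {ψ : AddChar F ℂ} (h2 : (2 : F) ≠ 0) (hψ : ψ 1 ≠ 1) {ν : F} (hν : ν ≠ 0) :
    ∃ t : F, t ≠ 0 ∧ ψ (ν * t ^ 2) ≠ 1 := by
  have hodd : Fintype.card F % 2 = 1 := FiniteField.odd_card_of_char_ne_two fun h => h2 (by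
    have : CharP F 2 := ringChar.of_eq h
    exact CharTwo.two_eq_zero)
  obtain ⟨a, b, hab'⟩ := FiniteField.exists_root_sum_quadratic (R := F) (f := Polynomial.X ^ 2)
    (g := Polynomial.X ^ 2 - Polynomial.C ν⁻¹) (by simp)
    (Polynomial.degree_X_pow_sub_C (by norm_num) _) hodd
  simp only [Polynomial.eval_pow, Polynomial.eval_X, Polynomial.eval_sub, Polynomial.eval_C] at hab'
  have hab : a ^ 2 + b ^ 2 = ν⁻¹ := by linear_combination hab'
  by_cases ha : ψ (ν * a ^ 2) ≠ 1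
  · exact ⟨a, fun h => ha (by rw [h]; simp), ha⟩
  push Not at ha
  by_cases hb : ψ (ν * b ^ 2) ≠ 1
  · exact ⟨b, fun h => hb (by rw [h]; simp), hb⟩
  push Not at hb
  refine absurd ?_ hψ
  rw [show (1 : F) = ν * a ^ 2 + ν * b ^ 2 by rw [← mul_add, hab, mul_inv_cancel₀ hν],
    AddChar.map_add_eq_mul, ha, hb, one_mul]

variable (h2 : (2 : F) ≠ 0) (hn : 2 ≤ n) {ψ : AddChar F ℂ} (hψ : ψ 1 ≠ 1) {ν : F} (hν0 : ν ≠ 0)

variable (hν : ψ ν ≠ 1)

include h2 hψ hν0 hν in
theorem exists_small (hn : 2 ≤ n) (b : Bool) :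
    ∃ χ, IsWeilChar n ψ (ν * -(2 : F)⁻¹) b χ := by
  classical
  have h1 : (ψ.mulShift ν) 1 ≠ 1 := by rwa [AddChar.mulShift_apply, mul_one]
  obtain ⟨W, hW, hc⟩ := exists_weil (n := n) (ψ.mulShift ν) h2 h1
  let D : WeilData n F (ψ.mulShift ν) := ⟨W, hW, hc⟩
  obtain ⟨k, hk, hkeq⟩ := exists_neg_parity h2 h1 D
  set e : ℂ := if b then 1 else -1 with he
  have he' : e = 1 ∨ e = -1 := by cases b <;> simp [he]
  have hg := good_half h2 h1 hn D he'
  have := hg.irr
  have hev : ∀ S, ev (ψ.mulShift ν) (D.rep e) S = ev ψ (D.rep e) (ν • S) := fun S => by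
    rw [ev, ev, symChar_mulShift]
  have hsub : ∀ S : Matrix (Fin n) (Fin n) F, S.IsSymm → ev ψ (D.rep e) S ≠ ⊥ →
      ∃ x, S = r1 (ν * -(2 : F)⁻¹) x := by
    intro S hS hne
    have hS' : (ν⁻¹ • S).IsSymm := IsSymm.smul hS _
    obtain ⟨x, hx⟩ := hg.class' _ hS' (by
      rw [hev, smul_smul, mul_inv_cancel₀ hν0, one_smul]; exact hne)
    refine ⟨x, ?_⟩
    rw [← smul_r1, ← hx, smul_smul, mul_inv_cancel₀ hν0, one_smul]
  have hnegv : ∀ v, D.rep e (leviSp n F (-1)) v = (k * e) • v := fun v => by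
    refine Subtype.ext ?_
    show D.W (leviSp n F (-1)) v.1 = (k * e) • v.1
    rw [hkeq, LinearMap.smul_apply, mem_half.1 v.2, smul_smul]
  obtain ⟨σ, ⟨φ⟩⟩ := Lib.Characters.Basic.exists_fin_equiv (D.rep e)
  have hint : ∀ g v, φ.toLinearEquiv (D.rep e g v) = σ g (φ.toLinearEquiv v) := fun g v =>
    congrArg (fun f : half n F e →ₗ[ℂ] (Fin (finrank ℂ (half n F e)) → ℂ) => f v)
      (φ.toIntertwiningMap.isIntertwining' g)
  have hevσ : ∀ S, ev ψ (D.rep e) S ≠ ⊥ ↔ ev ψ σ S ≠ ⊥ := by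
    intro S
    simp only [Submodule.ne_bot_iff, mem_ev]
    constructor
    · rintro ⟨v, hv, hv0⟩
      refine ⟨φ.toLinearEquiv v, fun B => ?_, fun h => hv0 (φ.toLinearEquiv.map_eq_zero_iff.1 h)⟩
      rw [← hint, hv, map_smul]
    · rintro ⟨w, hw, hw0⟩
      obtain ⟨v, rfl⟩ := φ.toLinearEquiv.surjective w
      refine ⟨v, fun B => φ.toLinearEquiv.injective ?_, fun h => hw0 (by rw [h, map_zero])⟩
      rw [hint, map_smul, hw]
  have hsmall : SmallRep n F ψ (ν * -(2 : F)⁻¹) (k * e) σ := by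
    refine ⟨Lib.Characters.Basic.isIrreducible_of_equiv φ hg.irr, fun S hS hne => ?_,
      fun x hx => ?_, fun S hS hne => hsub S hS ((hevσ S).2 hne), fun w => ?_⟩
    · obtain ⟨x, hx⟩ := hsub S hS ((hevσ S).2 hne)
      exact ⟨_, _, hx⟩
    · rw [← hevσ, ← smul_r1, ← hev]
      exact hg.occur x hx
    · obtain ⟨v, rfl⟩ := φ.toLinearEquiv.surjective w
      rw [← hint, hnegv, map_smul]
  refine ⟨Lib.Characters.Basic.irrChar (D.rep e), ?_,
    _, σ, _, hsmall, (Representation.char_iso φ).symm⟩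
  rw [Lib.Characters.Basic.coe_irrChar, Representation.char_one]
  have hd := finrank_half (n := n) (F := F) h2 he'
  cases b
  · refine Or.inr ⟨?_, rfl⟩
    simp only [he, Bool.false_eq_true, if_false] at hd ⊢
    rw [Nat.cast_sub (Nat.one_le_pow _ _ Fintype.card_pos), Nat.cast_pow, Nat.cast_one]
    linear_combination hd / 2
  · refine Or.inl ⟨?_, rfl⟩
    simp only [he, if_true] at hd ⊢
    push_cast
    linear_combination hd / 2

theorem exists_finrank_pos_vec {k : ℕ} (ρ : Representation ℂ (symplecticGroup (Fin n) F) (Fin k → ℂ))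
    [ρ.IsIrreducible] : ∃ v : Fin k → ℂ, v ≠ 0 := by
  by_contra h
  push Not at h
  have := Lib.Characters.Basic.finrank_pos_of_isIrreducible ρ
  have : Subsingleton (Fin k → ℂ) := ⟨fun a b => (h a).trans (h b).symm⟩
  simp [Module.finrank_zero_of_subsingleton] at *

include h2 hψ in
theorem SmallRep.eps {k : ℕ} {ρ : Representation ℂ (symplecticGroup (Fin n) F) (Fin k → ℂ)} {c : F}
    {ε : ℂ} (h : SmallRep n F ψ c ε ρ) : ε = 1 ∨ ε = -1 := by
  have := h.irr
  obtain ⟨v, hv⟩ := exists_finrank_pos_vec ρ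
  obtain ⟨ε', h', he'⟩ := exists_neg_scalar (ρ := ρ)
  have e := smul_left_injective ℂ hv ((h.neg v).symm.trans (he' v))
  exact e ▸ h'

include h2 hψ in
/-- The count and the gap. -/
theorem main (hodd : Odd (Fintype.card F)) (hn : 2 ≤ n) :
    Nat.card {χ : Cfsg.IrrCharacter (symplecticGroup (Fin n) F) //
      χ.1 1 = (((Fintype.card F) ^ n + 1 : ℕ) : ℂ) / 2} = 2 ∧
    Nat.card {χ : Cfsg.IrrCharacter (symplecticGroup (Fin n) F) //
      χ.1 1 = (((Fintype.card F) ^ n - 1 : ℕ) : ℂ) / 2} = 2 ∧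
    ∀ χ : Cfsg.IrrCharacter (symplecticGroup (Fin n) F), χ.1 1 ≠ 1 →
      χ.1 1 ≠ (((Fintype.card F) ^ n + 1 : ℕ) : ℂ) / 2 →
      χ.1 1 ≠ (((Fintype.card F) ^ n - 1 : ℕ) : ℂ) / 2 →
      ∀ d : ℕ, χ.1 1 = d →
        (Fintype.card F ^ n - 1) * (Fintype.card F ^ n - Fintype.card F) ≤
          2 * (Fintype.card F + 1) * d := by
  classical
  obtain ⟨ν0, hν0⟩ := FiniteField.exists_nonsquare (F := F) (fun h => h2 (by
    have : CharP F 2 := ringChar.of_eq h
    exact CharTwo.two_eq_zero))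
  have hν00 : ν0 ≠ 0 := fun h => hν0 (by rw [h]; exact IsSquare.zero)
  obtain ⟨t, ht, hψt⟩ := exists_sq_mul_char_ne h2 hψ hν00
  set ν := ν0 * t ^ 2 with hνdef
  have hνsq : ¬ IsSquare ν := by
    rintro ⟨r, hr⟩
    refine hν0 ⟨r / t, ?_⟩
    field_simp
    linear_combination hr
  have hνne : ν ≠ 0 := mul_ne_zero hν00 (pow_ne_zero 2 ht)
  set c0 : F := -(2 : F)⁻¹
  have hc0 : c0 ≠ 0 := neg_ne_zero.2 (inv_ne_zero h2)
  let m : Bool → F := fun s => if s then ν else 1
  have hm0 : ∀ s, m s ≠ 0 := fun s => by cases s <;> simp [m, hνne]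
  have hmψ : ∀ s, ψ (m s) ≠ 1 := fun s => by cases s <;> simp [m, hψ, hψt]
  have hex : ∀ s b, ∃ χ, IsWeilChar n ψ (m s * c0) b χ := fun s b =>
    exists_small h2 hψ (hm0 s) (hmψ s) hn b
  choose X hX using hex
  set Q := Fintype.card F ^ n with hQ
  have hQ9 : 9 ≤ Q := by
    have h3 := odd_card_three h2
    calc 9 = 3 * 3 := rfl
      _ ≤ Fintype.card F * Fintype.card F := Nat.mul_le_mul h3 h3
      _ ≤ Q := by rw [← pow_two]; exact Nat.pow_le_pow_right (by omega) hn
  have hQodd : Odd Q := hodd.pow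
  have hne : ((Q + 1 : ℕ) : ℂ) / 2 ≠ ((Q - 1 : ℕ) : ℂ) / 2 :=
    deg_plus_ne_minus (n := n) (F := F) (by omega)
  let deg : Bool → ℂ := fun b => if b then ((Q + 1 : ℕ) : ℂ) / 2 else ((Q - 1 : ℕ) : ℂ) / 2
  have hdeg : ∀ s b, (X s b).1 1 = deg b := by
    intro s b
    rcases (hX s b).1 with ⟨h, rfl⟩ | ⟨h, rfl⟩ <;> exact h
  have hn0 : 0 < n := by omega
  set e0 : Fin n → F := Pi.single ⟨0, hn0⟩ 1 with he0def
  have he0 : e0 ≠ 0 := by simp [he0def]
  -- separation of the classes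
  have hsep : ∀ b b', X true b ≠ X false b' := by
    intro b b' h
    obtain ⟨-, k, ρ, ε, hρ, hρc⟩ := hX true b
    obtain ⟨-, k', σ, ε', hσ, hσc⟩ := hX false b'
    have hch : ρ.character = σ.character := by rw [hρc, hσc, h]
    have hbot : ev ψ σ (r1 (m true * c0) e0) = ⊥ := by
      by_contra hb
      obtain ⟨x, hx⟩ := hσ.class' _ (r1_isSymm _ _) hb
      have := congrFun (congrFun hx ⟨0, hn0⟩) ⟨0, hn0⟩
      simp only [r1_apply, m, he0def, Pi.single_eq_same, if_true, Bool.false_eq_true, if_false,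
        one_mul, mul_one] at this
      refine hνsq ⟨x ⟨0, hn0⟩, ?_⟩
      refine mul_right_cancel₀ hc0 ?_
      linear_combination this
    have h3 := finrank_ev_eq ψ hch (r1 (m true * c0) e0)
    rw [hbot, finrank_bot, Submodule.finrank_eq_zero] at h3
    exact hρ.occur e0 he0 h3
  -- every small non-trivial character is one of the four
  have hclass : ∀ (χ : Cfsg.IrrCharacter (symplecticGroup (Fin n) F)) (d : ℕ), χ.1 1 = d → d ≠ 1 →
      2 * (Fintype.card F + 1) * d < (Q - 1) * (Q - Fintype.card F) → ∃ s b, χ = X s b := by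
    intro χ d hd hd1 hsmall
    obtain ⟨k, ρ, hρ, hρc⟩ := Lib.Characters.Basic.exists_rep χ
    have hdk : d = k := by
      rw [← hρc, Representation.char_one, Module.finrank_fin_fun] at hd
      exact_mod_cast hd.symm
    subst hdk
    have hR : RankOne ψ ρ := rankOne_or_bound h2 hψ (by rwa [Module.finrank_fin_fun])
    have hnt : ∃ g, ρ g ≠ 1 := by
      by_contra h
      push Not at h
      have h1 := finrank_le_one_of_trivial hρ h
      have h0 := Lib.Characters.Basic.finrank_pos_of_isIrreducible ρ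
      rw [Module.finrank_fin_fun] at h1 h0
      omega
    obtain ⟨α, x, hα, hx, hev⟩ := exists_type h2 hψ hn hodd hR hnt
    obtain ⟨s, r, hr⟩ : ∃ s r, α = (m s * c0) * r ^ 2 := by
      by_cases hsq : IsSquare (α / c0)
      · obtain ⟨r, hr⟩ := hsq
        refine ⟨false, r, ?_⟩
        simp only [m, Bool.false_eq_true, if_false, one_mul, pow_two, ← hr]
        rw [mul_div_cancel₀ _ hc0]
      · obtain ⟨r, hr⟩ : IsSquare (α / c0 / ν) := by
          have hz : α / c0 / ν ≠ 0 := div_ne_zero (div_ne_zero hα hc0) hνne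
          rw [← quadraticChar_one_iff_isSquare hz]
          have h4 := quadraticChar_neg_one_iff_not_isSquare.2 hsq
          have h5 := quadraticChar_neg_one_iff_not_isSquare.2 hνsq
          have h6 : quadraticChar F (α / c0 / ν) * quadraticChar F ν = quadraticChar F (α / c0) := by
            rw [← map_mul, div_mul_cancel₀ _ hνne]
          rw [h4, h5] at h6
          linarith
        refine ⟨true, r, ?_⟩
        simp only [m, if_true, pow_two, ← hr]
        field_simp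
    have hev' : ev ψ ρ (r1 (m s * c0) (r • x)) ≠ ⊥ := by rwa [← r1_rescale, ← hr]
    have hrx : r • x ≠ 0 := by
      refine smul_ne_zero (fun h => hα ?_) hx
      rw [hr, h]; ring
    obtain ⟨ε, hε, hεv⟩ := exists_neg_scalar (ρ := ρ)
    obtain ⟨-, k1, σ1, ε1, hσ1, hσ1c⟩ := hX s true
    obtain ⟨-, k2, σ2, ε2, hσ2, hσ2c⟩ := hX s false
    have := hσ1.irr
    have := hσ2.irr
    have h12 : ε1 ≠ ε2 := by
      intro h
      have hch := char_eq_of_same_type h2 hψ hn hσ1.rank hσ2.rank (ε := ε1) hσ1.neg (h ▸ hσ2.neg)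
        (mul_ne_zero (hm0 s) hc0) he0 (hσ1.occur e0 he0) (hσ2.occur e0 he0)
      rw [hσ1c, hσ2c] at hch
      have := congrFun hch 1
      rw [hdeg, hdeg] at this
      simp only [deg, if_true, Bool.false_eq_true, if_false] at this
      exact hne this
    have hE1 := hσ1.eps h2 hψ
    have hE2 := hσ2.eps h2 hψ
    rcases (show ε = ε1 ∨ ε = ε2 by
      rcases hε with rfl | rfl <;> rcases hE1 with rfl | rfl <;> rcases hE2 with rfl | rfl <;>
        simp_all) with rfl | rfl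
    · refine ⟨s, true, Subtype.ext ?_⟩
      rw [← hρc, ← hσ1c]
      exact char_eq_of_same_type h2 hψ hn hR hσ1.rank hεv hσ1.neg (mul_ne_zero (hm0 s) hc0) hrx
        hev' (hσ1.occur _ hrx)
    · refine ⟨s, false, Subtype.ext ?_⟩
      rw [← hρc, ← hσ2c]
      exact char_eq_of_same_type h2 hψ hn hR hσ2.rank hεv hσ2.neg (mul_ne_zero (hm0 s) hc0) hrx
        hev' (hσ2.occur _ hrx)
  have hnat : ∀ b, ∃ d : ℕ, deg b = d ∧ d ≠ 1 ∧
      2 * (Fintype.card F + 1) * d < (Q - 1) * (Q - Fintype.card F) := by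
    obtain ⟨r, hr⟩ := hQodd
    intro b
    cases b
    · refine ⟨r, ?_, by omega, half_small h2 hn (by omega)⟩
      simp only [deg, Bool.false_eq_true, if_false, hr, Nat.add_sub_cancel]
      push_cast; ring
    · refine ⟨r + 1, ?_, by omega, half_small h2 hn (by omega)⟩
      simp only [deg, if_true, hr]
      push_cast; ring
  have hdinj : ∀ b b', deg b = deg b' → b = b' := by
    intro b b' h
    cases b <;> cases b' <;> simp only [deg, if_true, Bool.false_eq_true, if_false] at h <;>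
      first | rfl | exact absurd h hne | exact absurd h.symm hne
  have hcount : ∀ b, Nat.card {χ : Cfsg.IrrCharacter (symplecticGroup (Fin n) F) // χ.1 1 = deg b}
      = 2 := by
    intro b
    rw [← (by simp : Nat.card Bool = 2)]
    refine (Nat.card_congr (Equiv.ofBijective (fun s => ⟨X s b, hdeg s b⟩) ⟨?_, ?_⟩)).symm
    · intro s s' h
      have h' := congrArg Subtype.val h
      cases s <;> cases s'
      · rfl
      · exact absurd h'.symm (hsep b b)
      · exact absurd h' (hsep b b)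
      · rfl
    · rintro ⟨χ, hχ⟩
      obtain ⟨d, hd, hd1, hds⟩ := hnat b
      obtain ⟨s, b', rfl⟩ := hclass χ d (hχ.trans hd) hd1 hds
      obtain rfl := hdinj b' b ((hdeg s b').symm.trans hχ)
      exact ⟨s, rfl⟩
  refine ⟨hcount true, hcount false, fun χ h1 hp hm d hd => ?_⟩
  by_contra hlt
  push Not at hlt
  obtain ⟨s, b, rfl⟩ := hclass χ d hd (fun h => h1 (by rw [hd, h, Nat.cast_one])) hlt
  cases b
  · exact hm (hdeg s false)
  · exact hp (hdeg s true)

end Cfsg.Agent.Lib.SpOddDeg63
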