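import Cfsg.Agent.Lib.SpOddDeg63.Bruhat
import Cfsg.Agent.Lib.SpOddDeg63.Fourier

/-!
When only matrices of rank at most one occur, the whole group moves a vector of a rank-one
eigenspace only inside the span of its Levi translates.
-/

set_option autoImplicit false

namespace Cfsg.Agent.Lib.SpOddDeg63

open Matrix Cfsg.Agent.Lib.MinDegree Cfsg.Agent.Lib.UniDeg48

variable {n : ℕ} {F : Type*} [Field F] [Fintype F]
variable {V : Type*} [AddCommGroup V] [Module ℂ V]
variable (ψ : AddChar F ℂ) (ρ : Representation ℂ (symplecticGroup (Fin n) F) V)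

/-- The span of the Levi translates. -/
def Ksub (c : V) : Submodule ℂ V :=
  Submodule.span ℂ (Set.range fun a : GL (Fin n) F => ρ (leviSp n F a) c)

variable {ψ ρ}

omit [Fintype F] in
theorem self_mem_Ksub (c : V) : c ∈ Ksub ρ c := by
  refine Submodule.subset_span ⟨1, ?_⟩
  simp

omit [Fintype F] in
theorem levi_mem_Ksub (a : GL (Fin n) F) {c u : V} (hu : u ∈ Ksub ρ c) :
    ρ (leviSp n F a) u ∈ Ksub ρ c := by
  have : (Ksub ρ c).map (ρ (leviSp n F a)) ≤ Ksub ρ c := by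
    rw [Ksub, Submodule.map_span, Submodule.span_le]
    rintro _ ⟨_, ⟨b, rfl⟩, rfl⟩
    refine Submodule.subset_span ⟨a * b, ?_⟩
    simp [map_mul]
  exact this ⟨u, hu, rfl⟩

omit [Fintype F] in
theorem Ksub_le_of_mem {c u : V} (hu : u ∈ Ksub ρ c) : Ksub ρ u ≤ Ksub ρ c := by
  rw [Ksub, Submodule.span_le]
  rintro _ ⟨a, rfl⟩
  exact levi_mem_Ksub a hu

omit [Fintype F] in
theorem Ksub_levi (a : GL (Fin n) F) (c : V) : Ksub ρ (ρ (leviSp n F a) c) = Ksub ρ c := by
  refine le_antisymm (Ksub_le_of_mem (levi_mem_Ksub a (self_mem_Ksub c))) (Ksub_le_of_mem ?_)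
  have := levi_mem_Ksub a⁻¹ (self_mem_Ksub (ρ := ρ) (ρ (leviSp n F a) c))
  rwa [map_inv, rho_inv_cancel] at this

omit [Fintype F] in
theorem uu_mem_Ksub {S : Matrix (Fin n) (Fin n) F} {c u : V} (hc : c ∈ ev ψ ρ S)
    (hu : u ∈ Ksub ρ c) (B : symMats n F) : ρ (uu B) u ∈ Ksub ρ c := by
  have : (Ksub ρ c).map (ρ (uu B)) ≤ Ksub ρ c := by
    rw [Ksub, Submodule.map_span, Submodule.span_le]
    rintro _ ⟨_, ⟨b, rfl⟩, rfl⟩
    show ρ (uu B) (ρ (leviSp n F b) c) ∈ Ksub ρ c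
    rw [uu_apply_ev (levi_mem_ev b hc) B]
    exact (Ksub ρ c).smul_mem _ (levi_mem_Ksub b (self_mem_Ksub c))
  exact this ⟨u, hu, rfl⟩

omit [Fintype F] in
theorem parabolic_mem_Ksub {S : Matrix (Fin n) (Fin n) F} {c u : V} (hc : c ∈ ev ψ ρ S)
    (hu : u ∈ Ksub ρ c) {p : symplecticGroup (Fin n) F} (hp : p.1.toBlocks₁₂ = 0) :
    ρ p u ∈ Ksub ρ c := by
  obtain ⟨a, B, rfl⟩ := exists_levi_uu hp
  rw [map_mul, Module.End.mul_apply]
  exact levi_mem_Ksub a (uu_mem_Ksub hc hu B)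

variable (h2 : (2 : F) ≠ 0) (hψ : ψ 1 ≠ 1)

include h2 hψ in
theorem pr_mem_Ksub {S T : Matrix (Fin n) (Fin n) F} (hS : S.IsSymm) (hT : T.IsSymm) {c u : V}
    (hc : c ∈ ev ψ ρ S) (hu : u ∈ Ksub ρ c) : pr ψ ρ T u ∈ Ksub ρ c := by
  have : (Ksub ρ c).map (pr ψ ρ T) ≤ Ksub ρ c := by
    rw [Ksub, Submodule.map_span, Submodule.span_le]
    rintro _ ⟨_, ⟨b, rfl⟩, rfl⟩
    show pr ψ ρ T (ρ (leviSp n F b) c) ∈ Ksub ρ c
    by_cases h : T = act b S
    · rw [h, pr_self (levi_mem_ev b hc)]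
      exact levi_mem_Ksub b (self_mem_Ksub c)
    · rw [pr_of_ne h2 hψ hT (act_isSymm b hS) h (levi_mem_ev b hc)]
      exact zero_mem _
  exact this ⟨u, hu, rfl⟩

include h2 hψ in
theorem pr_Ksub_eq_zero {S T : Matrix (Fin n) (Fin n) F} (hS : S.IsSymm) (hT : T.IsSymm)
    (hne : ∀ a, T ≠ act a S) {c u : V} (hc : c ∈ ev ψ ρ S) (hu : u ∈ Ksub ρ c) :
    pr ψ ρ T u = 0 := by
  have : Ksub ρ c ≤ LinearMap.ker (pr ψ ρ T) := by
    rw [Ksub, Submodule.span_le]
    rintro _ ⟨b, rfl⟩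
    exact pr_of_ne h2 hψ hT (act_isSymm b hS) (hne b) (levi_mem_ev b hc)
  exact this hu

variable (ψ ρ) in
/-- The compression property of a group element. -/
def Compr (g : symplecticGroup (Fin n) F) : Prop :=
  ∀ S T : Matrix (Fin n) (Fin n) F, S.IsSymm → T.IsSymm → S ≠ 0 → T ≠ 0 →
    ∀ c ∈ ev ψ ρ S, pr ψ ρ T (ρ g c) ∈ Ksub ρ c

include h2 hψ in
theorem compr_mul_left {g p : symplecticGroup (Fin n) F} (hp : p.1.toBlocks₁₂ = 0)
    (hg : Compr ψ ρ g) : Compr ψ ρ (p * g) := by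
  intro S T hS hT hS0 hT0 c hc
  obtain ⟨a, B, rfl⟩ := exists_levi_uu hp
  have hT' : T = act a (act a⁻¹ T) := by rw [← act_mul, mul_inv_cancel, act_one]
  rw [map_mul, map_mul, Module.End.mul_apply, Module.End.mul_apply, hT',
    pr_levi h2 hψ a (act_isSymm _ hT), pr_uu]
  exact levi_mem_Ksub a ((Ksub ρ c).smul_mem _
    (hg S _ hS (act_isSymm _ hT) hS0 (act_ne_zero _ hT0) c hc))

theorem compr_mul_right {g p : symplecticGroup (Fin n) F} (hp : p.1.toBlocks₁₂ = 0)
    (hg : Compr ψ ρ g) : Compr ψ ρ (g * p) := by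
  intro S T hS hT hS0 hT0 c hc
  obtain ⟨a, B, rfl⟩ := exists_levi_uu hp
  rw [map_mul, map_mul, Module.End.mul_apply, Module.End.mul_apply, uu_apply_ev hc B, map_smul,
    map_smul, map_smul]
  refine (Ksub ρ c).smul_mem _ ?_
  have := hg (act a S) T (act_isSymm a hS) hT (act_ne_zero a hS0) hT0 _ (levi_mem_ev a hc)
  rwa [Ksub_levi] at this

variable (hR : RankOne ψ ρ)

include h2 hψ hR in
/-- The Weyl element of a plane, applied away from the axis. -/
theorem wj_mem_Ksub {j k : Fin n} (hjk : j ≠ k) {α : F} (hα : α ≠ 0) {x : Fin n → F}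
    (hxk : x k ≠ 0) {c : V} (hc : c ∈ ev ψ ρ (r1 α x)) : ρ (wj j) c ∈ Ksub ρ c := by
  let L : Line n F := ⟨j, k, hjk, α, hα, Function.update x j 0, Function.update_self _ _ _,
    by rwa [Function.update_of_ne hjk.symm]⟩
  set s := x j / x k with hs
  have hk : L.v L.k = x k := Function.update_of_ne hjk.symm _ _
  have hpt : L.pt s = x := by
    funext p
    rw [L.pt_apply, hk]
    split_ifs with hp
    · rw [hp, hs, div_mul_cancel₀ _ hxk]
    · exact Function.update_of_ne hp _ _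
  set c₀ := L.X ρ (-s) c with hc₀
  have hc₀mem : c₀ ∈ ev ψ ρ (L.mat 0) := by
    have h := levi_mem_ev (L.T (-s)) hc
    have e : act (L.T (-s)) (r1 α x) = L.mat 0 := by
      conv_lhs => rw [show r1 α x = L.mat s by rw [Line.mat, hpt], ← L.act_mat_zero s, ← act_mul]
      rw [Line.T, Line.T, ← tv_add, neg_add_cancel, tv_zero, act_one]
    rw [e] at h
    exact h
  have hback : L.X ρ s c₀ = c := by
    rw [hc₀, Line.X, Line.X, ← Module.End.mul_apply, ← map_mul, ← map_mul, Line.T, Line.T, ← tv_add,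
      add_neg_cancel, tv_zero, map_one, map_one, Module.End.one_apply]
  obtain ⟨μ, -, hμ⟩ := L.exists_fourier h2 hψ hR
  have h := hμ s c₀ hc₀mem
  rw [hback] at h
  rw [show wj j = wj L.j from rfl, h]
  refine (Ksub ρ c).smul_mem _ ((Ksub ρ c).sum_mem fun r _ => (Ksub ρ c).smul_mem _ ?_)
  exact levi_mem_Ksub _ (levi_mem_Ksub _ (self_mem_Ksub c))

include h2 hψ hR in
/-- The Weyl element of a plane, applied on the axis. -/
theorem compr_axis (hn : 2 ≤ n) {j : Fin n} {α : F} (hα : α ≠ 0) {x : Fin n → F} (hxj : x j ≠ 0)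
    (hx : ∀ k, k ≠ j → x k = 0) {T : Matrix (Fin n) (Fin n) F} (hT : T.IsSymm) (hT0 : T ≠ 0)
    {c : V} (hc : c ∈ ev ψ ρ (r1 α x)) : pr ψ ρ T (ρ (wj j) c) ∈ Ksub ρ c := by
  classical
  set u := ρ (wj j) c with hu
  set d := pr ψ ρ T u with hd
  by_cases hd0 : d = 0
  · rw [hd0]; exact zero_mem _
  -- joint fixed vector of the unipotents off the row
  have hfix : ∀ B : symMats n F, (∀ r, B.1 j r = 0) → ρ (uu B) u = (1 : ℂ) • u := by
    intro B hB
    have hc' : ρ (uu B) c = c := by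
      rw [uu_apply_ev hc B, symChar_apply, trace_r1]
      have : x ⬝ᵥ (B.1 *ᵥ x) = 0 := by
        refine Finset.sum_eq_zero fun p _ => ?_
        rcases eq_or_ne p j with rfl | hp
        · simp [Matrix.mulVec, dotProduct, hB]
        · simp [hx p hp]
      rw [this, mul_zero, AddChar.map_zero_eq_one, one_smul]
    rw [one_smul, hu, wj, ← Module.End.mul_apply, ← map_mul, ← (e2_comm_uu j _ _ _ _ _ hB).eq,
      map_mul, Module.End.mul_apply, hc']
  have hsupp : ∀ S : Matrix (Fin n) (Fin n) F, S.IsSymm → pr ψ ρ S u ≠ 0 →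
      ∀ k l, k ≠ j → l ≠ j → S k l = 0 := by
    intro S hS h k l hk hl
    refine (entries_eq ψ h2 hψ hS (T := 0) (Matrix.isSymm_zero) (fun p => p = j)
      (fun B hB => ?_) hk hl).trans rfl
    rw [char_eq_of_pr_ne_zero h (hfix B (hB j rfl)), symChar_apply, Matrix.zero_mul, trace_zero,
      AddChar.map_zero_eq_one]
  obtain ⟨b, y, hby⟩ := hR T hT (fun hb => hd0 (by
    have := pr_mem (ψ := ψ) (ρ := ρ) T u
    rw [hb] at this; simpa using this))
  have hb : b ≠ 0 := fun h => hT0 (by rw [hby, h]; simp [r1])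
  have hyoff : ∀ k, k ≠ j → y k = 0 := by
    intro k hk
    have := hsupp T hT hd0 k k hk hk
    rw [hby, r1_apply] at this
    simpa [hb] using this
  have hyj : y j ≠ 0 := by
    intro h0
    refine hT0 ?_
    have : y = 0 := by
      funext p
      rcases eq_or_ne p j with rfl | hp
      · exact h0
      · exact hyoff p hp
    rw [hby, this]; simp [r1]
  have : Nontrivial (Fin n) := Fin.nontrivial_iff_two_le.2 hn
  obtain ⟨i, hij⟩ := exists_ne j
  let Lc : Line n F := ⟨i, j, hij, α, hα, x, hx i hij, hxj⟩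
  let Lt : Line n F := ⟨i, j, hij, b, hb, y, hyoff i hij, hyj⟩
  have hc0 : c ∈ ev ψ ρ (Lc.mat 0) := by rw [Lc.mat_zero]; exact hc
  have hT' : T = Lt.mat 0 := by rw [Lt.mat_zero]; exact hby
  have hd_mem : d ∈ ev ψ ρ (Lt.mat 0) := by rw [← hT']; exact pr_mem T u
  set P1 := pr ψ ρ (Lt.mat 1)
  -- first computation
  obtain ⟨μ, -, hμ⟩ := Lc.exists_fourier h2 hψ hR
  have h1 : P1 (ρ (wj i) u) ∈ Ksub ρ c := by
    have e : ρ (wj i) u = ρ (wj j) (ρ (wj i) c) := by
      rw [hu, ← Module.End.mul_apply, ← map_mul, wj_comm, map_mul, Module.End.mul_apply]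
    have h := hμ 0 c hc0
    rw [Lc.X_zero] at h
    rw [e, show wj i = wj Lc.j from rfl, h, map_smul, map_smul, map_sum, map_sum]
    refine (Ksub ρ c).smul_mem _ ((Ksub ρ c).sum_mem fun r _ => ?_)
    rw [map_smul, map_smul]
    refine (Ksub ρ c).smul_mem _ ?_
    rcases eq_or_ne r 0 with rfl | hr
    · rw [Lc.X_zero, ← hu]
      suffices P1 u = 0 by rw [this]; exact zero_mem _
      by_contra hne
      have := hsupp _ (Lt.mat_isSymm 1) hne i i hij hij
      rw [Line.mat, r1_apply, Lt.pt_apply, if_pos (show i = Lt.j from rfl), one_mul] at this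
      exact mul_ne_zero hb (mul_ne_zero hyj hyj) this
    · refine pr_mem_Ksub h2 hψ (r1_isSymm α x) (Lt.mat_isSymm 1) hc ?_
      have hmem : Lc.X ρ r c ∈ ev ψ ρ (r1 α (Lc.pt r)) := Lc.X_mem ψ ρ hc0 r
      refine Ksub_le_of_mem (levi_mem_Ksub (Lc.T r) (self_mem_Ksub c))
        (wj_mem_Ksub h2 hψ hR (k := i) hij.symm hα ?_ hmem)
      rw [Lc.pt_apply, if_pos (show i = Lc.j from rfl)]
      exact mul_ne_zero hr hxj
  -- only the target component survives
  have h2' : P1 (ρ (wj i) u) = P1 (ρ (wj i) d) := by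
    rw [← sub_eq_zero, ← map_sub, ← map_sub]
    show (P1 * ρ (wj i)) (u - d) = 0
    rw [← LinearMap.mem_ker]
    refine mem_of_pr (ψ := ψ) (ρ := ρ) h2 hψ fun S hS => ?_
    rw [LinearMap.mem_ker, map_sub]
    rcases eq_or_ne S T with rfl | hne
    · rw [hd, pr_self (pr_mem _ _), sub_self, map_zero]
    rw [hd, pr_of_ne h2 hψ hS hT hne (pr_mem T u), sub_zero]
    set e := pr ψ ρ S u with he
    by_cases he0 : e = 0
    · rw [he0, map_zero]
    have hem : e ∈ ev ψ ρ S := pr_mem S u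
    rw [Module.End.mul_apply]
    by_contra hnz
    obtain ⟨b', y', hby'⟩ := hR S hS (fun hb => he0 (by rw [hb] at hem; simpa using hem))
    refine hne (Matrix.ext fun p r => ?_)
    have hoff := hsupp S hS he0
    have hjj : S j j = T j j := by
      have hTt : T j j = Lt.mat 1 j j := by
        rw [hby, Line.mat, r1_apply, r1_apply, Lt.pt_apply,
          if_neg (show j ≠ Lt.j from hij.symm)]
      rw [hTt]
      refine (entries_eq ψ h2 hψ (Lt.mat_isSymm 1) hS (fun q => q = i) (fun B hB => ?_)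
        hij.symm hij.symm).symm
      refine char_eq_of_pr_ne_zero hnz ?_
      rw [wj, ← Module.End.mul_apply, ← map_mul, ← (e2_comm_uu i _ _ _ _ _ (hB i rfl)).eq, map_mul,
        Module.End.mul_apply, uu_apply_ev hem B, map_smul]
    by_cases hpj : p = j <;> by_cases hrj : r = j
    · rw [hpj, hrj]; exact hjj
    · have h0 := hoff r r hrj hrj
      rw [hby', r1_apply] at h0
      rw [hby', hby, r1_apply, r1_apply, hyoff r hrj]
      rcases mul_eq_zero.1 h0 with h | h <;> simp_all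
    · have h0 := hoff p p hpj hpj
      rw [hby', r1_apply] at h0
      rw [hby', hby, r1_apply, r1_apply, hyoff p hpj]
      rcases mul_eq_zero.1 h0 with h | h <;> simp_all
    · rw [hoff p r hpj hrj, hby, r1_apply, hyoff p hpj]; ring
  obtain ⟨ν, hν0, hν⟩ := Lt.exists_fourier h2 hψ hR
  have h3 : P1 (ρ (wj i) d) = ν • Lt.X ρ 1 d := by
    have h := hν 0 d hd_mem
    rw [Lt.X_zero] at h
    rw [show wj i = wj Lt.j from rfl, h, map_smul, map_sum]
    congr 1
    rw [Finset.sum_eq_single (1 : F)]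
    · rw [map_smul, Line.four, Matrix.of_apply, mul_zero, mul_zero, AddChar.map_zero_eq_one,
        one_smul]
      exact pr_self (Lt.X_mem ψ ρ hd_mem 1)
    · intro r _ hr
      rw [map_smul, pr_of_ne h2 hψ (Lt.mat_isSymm 1) (Lt.mat_isSymm r)
        (fun e => hr (Lt.mat_inj e).symm) (Lt.X_mem ψ ρ hd_mem r), smul_zero]
    · simp
  rw [h2', h3, Submodule.smul_mem_iff _ hν0] at h1
  have := levi_mem_Ksub (Lt.T 1)⁻¹ h1
  rwa [map_inv, Line.X, rho_inv_cancel] at this

include h2 hψ hR in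
theorem compr_wJ (hn : 2 ≤ n) (J : Finset (Fin n)) : Compr ψ ρ (wJ J) := by
  classical
  induction J using Finset.strongInduction with
  | _ J ih => ?_
  intro S T hS hT hS0 hT0 c hc
  by_cases hc0 : c = 0
  · simp [hc0]
  obtain ⟨α, x, rfl⟩ := hR S hS (fun hb => hc0 (by rw [hb] at hc; simpa using hc))
  have hα : α ≠ 0 := fun h => hS0 (by rw [h]; simp [r1])
  have hx : x ≠ 0 := fun h => hS0 (by rw [h]; simp [r1])
  by_cases hgood : ∃ i ∈ J, ∃ k, i ≠ k ∧ x k ≠ 0
  · obtain ⟨i, hi, k, hik, hxk⟩ := hgood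
    rw [← Finset.insert_erase hi, wJ_insert (Finset.notMem_erase i J), map_mul,
      Module.End.mul_apply]
    set u := ρ (wj i) c
    have hu : u ∈ Ksub ρ c := wj_mem_Ksub h2 hψ hR hik hα hxk hc
    suffices u ∈ (Ksub ρ c).comap (pr ψ ρ T * ρ (wJ (J.erase i))) from this
    refine mem_of_pr (ψ := ψ) (ρ := ρ) h2 hψ fun S' hS' => ?_
    rw [Submodule.mem_comap, Module.End.mul_apply]
    rcases eq_or_ne S' 0 with rfl | hS'0
    · rw [pr_Ksub_eq_zero h2 hψ hS Matrix.isSymm_zero (fun a => (act_ne_zero a hS0).symm) hc hu,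
        map_zero, map_zero]
      exact zero_mem _
    exact Ksub_le_of_mem (pr_mem_Ksub h2 hψ hS hS' hc hu)
      (ih _ (Finset.erase_ssubset hi) S' T hS' hT hS'0 hT0 _ (pr_mem S' u))
  · push Not at hgood
    obtain ⟨p, hp⟩ := Function.ne_iff.1 hx
    rcases Finset.eq_empty_or_nonempty J with rfl | ⟨j, hj⟩
    · rw [wJ_empty, map_one, Module.End.one_apply]
      exact pr_mem_Ksub h2 hψ hS hT hc (self_mem_Ksub c)
    have hall : ∀ i ∈ J, i = p := fun i hi => by
      by_contra hne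
      exact hp (hgood i hi p hne)
    have hJ : J = insert p ∅ := by
      ext i
      simp only [Finset.insert_empty, Finset.mem_singleton]
      exact ⟨hall i, fun h => h ▸ hall j hj ▸ hj⟩
    rw [hJ, wJ_insert (Finset.notMem_empty _), wJ_empty, one_mul]
    have hpJ : p ∈ J := hall j hj ▸ hj
    exact compr_axis h2 hψ hR hn hα hp (fun k hk => hgood p hpJ k hk.symm) hT hT0 hc

include h2 hψ hR in
/-- The main compression statement. -/
theorem compr_all (hn : 2 ≤ n) (g : symplecticGroup (Fin n) F) : Compr ψ ρ g := by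
  obtain ⟨p, q, J, hp, hq, rfl⟩ := exists_decomp g
  exact compr_mul_right hq (compr_mul_left h2 hψ hp (compr_wJ h2 hψ hR hn J))

end Cfsg.Agent.Lib.SpOddDeg63
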