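import Cfsg.Agent.Lib.MinDegree.Symplectic

/-!
Elements of `Sp_{2n}(F)` built from diagonal blocks, and their relations with the lower
unitriangular group and the Levi subgroup.
-/

set_option autoImplicit false

namespace Cfsg.Agent.Lib.SpOddDeg63

open Matrix Cfsg.Agent.Lib.MinDegree

variable {n : ℕ} {F : Type*} [Field F]

/-- The ambient matrices. -/
abbrev MM (n : ℕ) (F : Type*) := Matrix (Fin n ⊕ Fin n) (Fin n ⊕ Fin n) F

/-- The symplectic group. -/
abbrev SpG (n : ℕ) (F : Type*) [Field F] : Submonoid (MM n F) := symplecticGroup (Fin n) F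

/-- A lower unitriangular element. -/
abbrev uu (B : symMats n F) : SpG n F := lowerUni n F (Multiplicative.ofAdd B)

theorem uu_coe (B : symMats n F) : (uu B).1 = fromBlocks 1 0 B.1 1 := lowerUni_coe B

theorem uu_add (A B : symMats n F) : uu (A + B) = uu A * uu B := by
  rw [uu, uu, uu, ofAdd_add, map_mul]

theorem uu_zero : uu (0 : symMats n F) = 1 := by rw [uu, ofAdd_zero, map_one]

theorem levi_coe (a : GL (Fin n) F) :
    (leviSp n F a).1 = fromBlocks a.1 0 0 (a⁻¹).1ᵀ := rfl

/-- Four diagonal blocks forming a symplectic matrix. -/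
def dsl (a b c d : Fin n → F) (h : ∀ i, a i * d i - b i * c i = 1) : SpG n F :=
  ⟨fromBlocks (diagonal a) (diagonal b) (diagonal c) (diagonal d), by
    rw [SymplecticGroup.mem_iff]
    simp only [Matrix.J, fromBlocks_transpose, fromBlocks_multiply, diagonal_transpose, mul_zero,
      zero_mul, add_zero, zero_add, mul_neg, neg_mul, mul_one, diagonal_mul_diagonal,
      fromBlocks_inj, ← diagonal_one, diagonal_neg, diagonal_add, ← diagonal_zero]
    refine ⟨?_, ?_, ?_, ?_⟩ <;> congr 1 <;> funext i <;> have := h i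
    · ring
    · linear_combination -this
    · linear_combination this
    · ring⟩

theorem dsl_coe (a b c d : Fin n → F) (h : ∀ i, a i * d i - b i * c i = 1) :
    (dsl a b c d h).1 = fromBlocks (diagonal a) (diagonal b) (diagonal c) (diagonal d) := rfl

theorem dsl_congr {a b c d a' b' c' d' : Fin n → F} {h : ∀ i, a i * d i - b i * c i = 1}
    {h' : ∀ i, a' i * d' i - b' i * c' i = 1} (ha : a = a') (hb : b = b') (hc : c = c')
    (hd : d = d') : dsl a b c d h = dsl a' b' c' d' h' := by
  subst ha hb hc hd; rfl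

theorem dsl_mul (a b c d a' b' c' d' : Fin n → F) (h : ∀ i, a i * d i - b i * c i = 1)
    (h' : ∀ i, a' i * d' i - b' i * c' i = 1) :
    dsl a b c d h * dsl a' b' c' d' h' =
      dsl (a * a' + b * c') (a * b' + b * d') (c * a' + d * c') (c * b' + d * d') (fun i => by
        have h1 := h i; have h2 := h' i
        simp only [Pi.add_apply, Pi.mul_apply]
        linear_combination (a' i * d' i - b' i * c' i) * h1 + h2) := by
  apply Subtype.ext
  rw [Submonoid.coe_mul, dsl_coe, dsl_coe, dsl_coe, fromBlocks_multiply]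
  simp only [diagonal_mul_diagonal, diagonal_add, fromBlocks_inj]
  exact ⟨rfl, rfl, rfl, rfl⟩

theorem dsl_one : dsl (1 : Fin n → F) 0 0 1 (fun i => by simp) = 1 := by
  apply Subtype.ext
  simp [dsl_coe, fromBlocks_one]

open Function in
/-- `SL_2` on the `j`-th hyperbolic plane. -/
def e2 (j : Fin n) (a b c d : F) (h : a * d - b * c = 1) : SpG n F :=
  dsl (update 1 j a) (update 0 j b) (update 0 j c) (update 1 j d) (fun i => by
    rcases eq_or_ne i j with rfl | hi
    · simpa using h
    · simp [hi])

open Function in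
theorem e2_mul (j : Fin n) (a b c d a' b' c' d' : F) (h : a * d - b * c = 1)
    (h' : a' * d' - b' * c' = 1) :
    e2 j a b c d h * e2 j a' b' c' d' h' =
      e2 j (a * a' + b * c') (a * b' + b * d') (c * a' + d * c') (c * b' + d * d')
        (by linear_combination (a' * d' - b' * c') * h + h') := by
  rw [e2, e2, e2, dsl_mul]
  refine dsl_congr ?_ ?_ ?_ ?_ <;> funext i <;>
    (rcases eq_or_ne i j with rfl | hi <;> simp [*])

theorem e2_congr {j : Fin n} {a b c d a' b' c' d' : F} {h : a * d - b * c = 1}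
    {h' : a' * d' - b' * c' = 1} (ha : a = a') (hb : b = b') (hc : c = c') (hd : d = d') :
    e2 j a b c d h = e2 j a' b' c' d' h' := by
  subst ha hb hc hd; rfl

theorem e2_one (j : Fin n) : e2 j (1 : F) 0 0 1 (by ring) = 1 := by
  rw [e2, ← dsl_one]
  refine dsl_congr ?_ ?_ ?_ ?_ <;> funext i <;>
    (rcases eq_or_ne i j with rfl | hi <;> simp [*])

/-- The Weyl element of the `j`-th plane. -/
def wj (j : Fin n) : SpG n F := e2 j 0 (-1) 1 0 (by ring)

/-- The Weyl element of a set of planes. -/
def wJ (J : Finset (Fin n)) : SpG n F :=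
  dsl (fun i => if i ∈ J then 0 else 1) (fun i => if i ∈ J then -1 else 0)
    (fun i => if i ∈ J then 1 else 0) (fun i => if i ∈ J then 0 else 1)
    (fun i => by split_ifs <;> ring)

theorem wJ_empty : wJ (∅ : Finset (Fin n)) = (1 : SpG n F) := by
  rw [wJ, ← dsl_one]
  refine dsl_congr ?_ ?_ ?_ ?_ <;> funext i <;> simp

theorem wJ_insert {j : Fin n} {J : Finset (Fin n)} (hj : j ∉ J) :
    (wJ (insert j J) : SpG n F) = wJ J * wj j := by
  rw [wJ, wJ, wj, e2, dsl_mul]
  refine dsl_congr ?_ ?_ ?_ ?_ <;> funext i <;>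
    (rcases eq_or_ne i j with rfl | hi <;> simp [*])

theorem wj_comm (i j : Fin n) : wj i * wj j = (wj j * wj i : SpG n F) := by
  rcases eq_or_ne i j with rfl | hij
  · rfl
  rw [wj, wj, e2, e2, dsl_mul, dsl_mul]
  refine dsl_congr ?_ ?_ ?_ ?_ <;> funext l <;>
    (rcases eq_or_ne l i with rfl | hi <;> rcases eq_or_ne l j with rfl | hj <;> simp [*] at *)

theorem wj_sq (j : Fin n) :
    (wj j * wj j : SpG n F) = e2 j (-1) 0 0 (-1) (by ring) := by
  rw [wj, e2_mul]
  exact e2_congr (by ring) (by ring) (by ring) (by ring)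

theorem wj_pow_four (j : Fin n) : (wj j : SpG n F) ^ 4 = 1 := by
  rw [show (4 : ℕ) = 2 + 2 from rfl, pow_add, pow_two, wj_sq, e2_mul, ← e2_one j]
  exact e2_congr (by ring) (by ring) (by ring) (by ring)

/-- A symmetric matrix supported at `(j, j)`. -/
def sjj (j : Fin n) (a : F) : symMats n F :=
  ⟨single j j a, by
    show (single j j a)ᵀ = single j j a
    rw [transpose_single]⟩

/-- A symmetric matrix supported at `(j, k)` and `(k, j)`. -/
def sjk (j k : Fin n) (b : F) : symMats n F :=
  ⟨single j k b + single k j b, by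
    show (single j k b + single k j b)ᵀ = _
    rw [transpose_add, transpose_single, transpose_single, add_comm]⟩

theorem diagonal_update_zero (j : Fin n) (a : F) :
    diagonal (Function.update (0 : Fin n → F) j a) = single j j a := by
  ext p r
  rcases eq_or_ne p r with rfl | hpr
  · rcases eq_or_ne p j with rfl | hp <;> simp [*, single_apply, Ne.symm]
  · rw [diagonal_apply_ne _ hpr, single_apply, if_neg]
    rintro ⟨rfl, rfl⟩; exact hpr rfl

theorem uu_sjj (j : Fin n) (a : F) : uu (sjj j a) = e2 j 1 0 a 1 (by ring) := by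
  apply Subtype.ext
  rw [uu_coe, e2, dsl_coe]
  simp [sjj, diagonal_update_zero, ← diagonal_one, Function.update_eq_self_iff]

theorem wz_cube (j : Fin n) : (wj j * uu (sjj j (1 : F))) ^ 3 = 1 := by
  rw [uu_sjj, wj, e2_mul, pow_succ, pow_two, e2_mul, e2_mul, ← e2_one j]
  exact e2_congr (by ring) (by ring) (by ring) (by ring)

/-- A diagonal element of `GL`. -/
def dgl (d : Fin n → F) (hd : ∀ i, d i ≠ 0) : GL (Fin n) F :=
  ⟨diagonal d, diagonal (fun i => (d i)⁻¹),
    by rw [diagonal_mul_diagonal, ← diagonal_one]; congr 1; funext i; exact mul_inv_cancel₀ (hd i),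
    by rw [diagonal_mul_diagonal, ← diagonal_one]; congr 1; funext i; exact inv_mul_cancel₀ (hd i)⟩

theorem levi_dgl (d : Fin n → F) (hd : ∀ i, d i ≠ 0) :
    leviSp n F (dgl d hd) = dsl d 0 0 (fun i => (d i)⁻¹) (fun i => by
      rw [mul_inv_cancel₀ (hd i)]; simp) := by
  apply Subtype.ext
  rw [levi_coe, dsl_coe]
  show fromBlocks (diagonal d) 0 0 (diagonal fun i => (d i)⁻¹)ᵀ = _
  rw [diagonal_transpose, diagonal_zero']

/-- A transvection in `GL`. -/
def tv (i l : Fin n) (h : i ≠ l) (s : F) : GL (Fin n) F :=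
  ⟨transvection i l s, transvection i l (-s),
    by rw [transvection_mul_transvection_same _ _ h, add_neg_cancel, transvection_zero],
    by rw [transvection_mul_transvection_same _ _ h, neg_add_cancel, transvection_zero]⟩

theorem tv_add (i l : Fin n) (h : i ≠ l) (s t : F) : tv i l h (s + t) = tv i l h s * tv i l h t :=
  Units.ext (transvection_mul_transvection_same _ _ h s t).symm

theorem tv_zero (i l : Fin n) (h : i ≠ l) : tv i l h (0 : F) = 1 :=
  Units.ext (transvection_zero _ _)

theorem tv_mulVec (i l : Fin n) (h : i ≠ l) (s : F) (x : Fin n → F) :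
    (tv i l h s).1 *ᵥ x = x + (s * x l) • Pi.single i 1 := by
  show transvection i l s *ᵥ x = _
  rw [transvection, add_mulVec, one_mulVec]
  congr 1
  funext p
  rcases eq_or_ne i p with rfl | hp
  · simp [Matrix.mulVec, dotProduct, single_apply, Finset.sum_ite_eq]
  · simp [Matrix.mulVec, dotProduct, single_apply, hp, hp.symm]

theorem levi_tv_coe (i l : Fin n) (h : i ≠ l) (s : F) :
    (leviSp n F (tv i l h s)).1 = fromBlocks (1 + single i l s) 0 0 (1 - single l i s) := by
  rw [levi_coe]
  show fromBlocks (transvection i l s) 0 0 (transvection i l (-s))ᵀ = _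
  rw [transvection, transvection, transpose_add, transpose_one, transpose_single, sub_eq_add_neg]
  congr 2
  ext p r
  simp only [Matrix.neg_apply, single_apply]
  split_ifs <;> simp

/-- The Weyl element exchanges the shear and the off-diagonal unipotent. -/
theorem wj_tv (j k : Fin n) (h : j ≠ k) (s : F) :
    wj j * leviSp n F (tv j k h s) = uu (sjk j k s) * wj j := by
  apply Subtype.ext
  rw [Submonoid.coe_mul, Submonoid.coe_mul, uu_coe, levi_tv_coe, wj, e2, dsl_coe,
    fromBlocks_multiply, fromBlocks_multiply, fromBlocks_inj]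
  refine ⟨?_, ?_, ?_, ?_⟩ <;> ext p r <;>
    simp only [sjk, zero_mul, mul_zero, add_zero, zero_add, one_mul, Matrix.mul_add, Matrix.mul_sub,
      Matrix.add_mul, mul_one, Matrix.add_apply, Matrix.sub_apply, diagonal_mul, mul_diagonal,
      diagonal_apply, single_apply, Function.update_apply, Pi.zero_apply, Pi.one_apply,
      Matrix.zero_apply] <;>
    by_cases hp : p = j <;> by_cases hr : r = j <;>
    (first
      | (subst hp; subst hr; simp [h, h.symm])
      | (subst hp; simp [h, h.symm, hr, Ne.symm hr])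
      | (subst hr; simp [h, h.symm, hp, Ne.symm hp])
      | simp [hp, hr, Ne.symm hp, Ne.symm hr])

theorem tv_wj (j k : Fin n) (h : j ≠ k) (s : F) :
    leviSp n F (tv j k h s) * wj j = wj j * uu (sjk j k (-s)) := by
  apply Subtype.ext
  rw [Submonoid.coe_mul, Submonoid.coe_mul, uu_coe, levi_tv_coe, wj, e2, dsl_coe,
    fromBlocks_multiply, fromBlocks_multiply, fromBlocks_inj]
  refine ⟨?_, ?_, ?_, ?_⟩ <;> ext p r <;>
    simp only [sjk, zero_mul, mul_zero, add_zero, zero_add, one_mul, Matrix.mul_add, Matrix.sub_mul,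
      Matrix.add_mul, mul_one, Matrix.add_apply, Matrix.sub_apply, diagonal_mul, mul_diagonal,
      diagonal_apply, single_apply, Function.update_apply, Pi.zero_apply, Pi.one_apply,
      Matrix.zero_apply] <;>
    by_cases hp : p = j <;> by_cases hr : r = j <;>
    (first
      | (subst hp; subst hr; simp [h, h.symm])
      | (subst hp; simp [h, h.symm, hr, Ne.symm hr])
      | (subst hr; simp [h, h.symm, hp, Ne.symm hp] <;> split_ifs <;> simp)
      | simp [hp, hr, Ne.symm hp, Ne.symm hr])

/-- The plane `j` commutes with the unipotents vanishing on row `j`. -/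
theorem e2_comm_uu (j : Fin n) (a b c d : F) (h : a * d - b * c = 1) {B : symMats n F}
    (hB : ∀ l, B.1 j l = 0) : Commute (e2 j a b c d h) (uu B) := by
  have hB' : ∀ l, B.1 l j = 0 := fun l => by
    rw [show B.1 l j = B.1ᵀ j l from rfl, show B.1ᵀ = B.1 from B.2, hB]
  apply Subtype.ext
  rw [Submonoid.coe_mul, Submonoid.coe_mul, uu_coe, e2, dsl_coe,
    fromBlocks_multiply, fromBlocks_multiply, fromBlocks_inj]
  refine ⟨?_, ?_, ?_, ?_⟩ <;> ext p r <;>
    simp only [zero_mul, mul_zero, add_zero, zero_add, one_mul, mul_one, Matrix.add_apply,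
      diagonal_mul, mul_diagonal, diagonal_apply, Function.update_apply, Pi.zero_apply,
      Pi.one_apply] <;>
    split_ifs <;> simp_all

end Cfsg.Agent.Lib.SpOddDeg63
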