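import Mathlib

/-!
`GL_n` is transitive on independent tuples, and diagonal forms of symmetric matrices.
-/

set_option autoImplicit false

namespace Cfsg.Agent.Lib.SpOddDeg63

open Matrix Module

variable {n : ℕ} {F : Type*} [Field F]

/-- Two independent tuples differ by an invertible matrix. -/
theorem exists_gl_tuple {k : ℕ} {X Y : Fin k → Fin n → F} (hX : LinearIndependent F X)
    (hY : LinearIndependent F Y) : ∃ a : GL (Fin n) F, ∀ i, a.1 *ᵥ X i = Y i := by
  classical
  let bX := Basis.sumExtend hX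
  let bY := Basis.sumExtend hY
  have hfin : ∀ {Z : Fin k → Fin n → F} (hZ : LinearIndependent F Z),
      Finite (Fin k ⊕ Basis.sumExtendIndex hZ) := fun hZ =>
        Module.Finite.finite_basis (Basis.sumExtend hZ)
  have := hfin hX
  have := hfin hY
  have : Finite (Basis.sumExtendIndex hX) := Finite.sum_right (Fin k)
  have : Finite (Basis.sumExtendIndex hY) := Finite.sum_right (Fin k)
  have hcard : Nat.card (Basis.sumExtendIndex hX) = Nat.card (Basis.sumExtendIndex hY) := by
    have h1 := Module.finrank_eq_nat_card_basis bX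
    have h2 := Module.finrank_eq_nat_card_basis bY
    rw [Nat.card_sum] at h1 h2
    omega
  obtain ⟨e⟩ : Nonempty (Basis.sumExtendIndex hX ≃ Basis.sumExtendIndex hY) :=
    ⟨(Finite.card_eq.1 hcard).some⟩
  let f := bX.equiv bY ((Equiv.refl (Fin k)).sumCongr e)
  have hf : ∀ i, f (X i) = Y i := by
    intro i
    have hb : bX (Sum.inl i) = X i := by simp [bX, Basis.sumExtend]; rfl
    have hb' : bY (Sum.inl i) = Y i := by simp [bY, Basis.sumExtend]; rfl
    rw [← hb, ← hb']
    exact Basis.equiv_apply _ _ _ _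
  let a : GL (Fin n) F :=
    ⟨LinearMap.toMatrix' f.toLinearMap, LinearMap.toMatrix' f.symm.toLinearMap,
      by rw [← LinearMap.toMatrix'_comp]; simp,
      by rw [← LinearMap.toMatrix'_comp]; simp⟩
  refine ⟨a, fun i => ?_⟩
  show LinearMap.toMatrix' f.toLinearMap *ᵥ X i = Y i
  rw [LinearMap.toMatrix'_mulVec]
  exact hf i

/-- `GL_n` is transitive on non-zero vectors. -/
theorem exists_gl_vec {x y : Fin n → F} (hx : x ≠ 0) (hy : y ≠ 0) :
    ∃ a : GL (Fin n) F, a.1 *ᵥ x = y := by
  obtain ⟨a, ha⟩ := exists_gl_tuple (k := 1) (X := fun _ => x) (Y := fun _ => y)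
    (linearIndependent_unique_iff.2 hx) (linearIndependent_unique_iff.2 hy)
  exact ⟨a, ha 0⟩

/-- A symmetric matrix is congruent to a diagonal one. -/
theorem exists_diag_congr (h2 : (2 : F) ≠ 0) {S : Matrix (Fin n) (Fin n) F} (hS : S.IsSymm) :
    ∃ (a : GL (Fin n) F) (d : Fin n → F), a.1 * S * a.1ᵀ = diagonal d := by
  classical
  have : Invertible (2 : F) := invertibleOfNonzero h2
  let B := Matrix.toBilin' S
  have hB : LinearMap.IsSymm B := ⟨fun x y => by
    simp only [B, Matrix.toBilin'_apply', RingHom.id_apply]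
    rw [dotProduct_mulVec, dotProduct_comm, ← mulVec_transpose, hS.eq]⟩
  obtain ⟨v, hv⟩ := LinearMap.BilinForm.exists_orthogonal_basis hB
  let w : Basis (Fin n) F (Fin n → F) := v.reindex (finCongr (by simp))
  have hw : ∀ i l, i ≠ l → B (w i) (w l) = 0 := fun i l h => by
    simp only [w, Basis.reindex_apply]
    exact hv fun e => h ((finCongr _).symm.injective e)
  have hu : IsUnit (Matrix.of fun i p => w i p : Matrix (Fin n) (Fin n) F) :=
    Matrix.linearIndependent_rows_iff_isUnit.1 w.linearIndependent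
  refine ⟨hu.unit, fun i => B (w i) (w i), ?_⟩
  ext i l
  have key : ((Matrix.of fun i p => w i p) * S * (Matrix.of fun i p => w i p)ᵀ) i l =
      B (w i) (w l) := by
    rw [Matrix.toBilin'_apply', mul_assoc, Matrix.mul_apply']
    congr 1
  rw [IsUnit.unit_spec, key]
  rcases eq_or_ne i l with rfl | h
  · rw [diagonal_apply_eq]
  · rw [diagonal_apply_ne _ h, hw i l h]

end Cfsg.Agent.Lib.SpOddDeg63
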