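import Cfsg.Agent.Lib.SpOddDeg63.Spectrum
import Cfsg.Agent.Lib.SpOddDeg63.Linear

/-!
A congruence orbit of symmetric matrices of rank at least two has at least
`(q ^ n - 1) (q ^ n - q) / (2 (q + 1))` elements (odd characteristic).
-/

set_option autoImplicit false

namespace Cfsg.Agent.Lib.SpOddDeg63

open Matrix Cfsg.Agent.Lib.MinDegree

variable {n : ℕ} {F : Type*} [Field F] [Fintype F]

/-- The matrices preserving a diagonal form. -/
def orthMat {k : ℕ} (δ : Fin k → F) : Set (Matrix (Fin k) (Fin k) F) :=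
  {A | A * diagonal δ * Aᵀ = diagonal δ}

omit [Fintype F] in
theorem orth_entry {k : ℕ} {δ : Fin k → F} {A : Matrix (Fin k) (Fin k) F} (hA : A ∈ orthMat δ)
    (i l : Fin k) : ∑ p, A i p * δ p * A l p = if i = l then δ i else 0 := by
  have := congrFun (congrFun (hA : A * diagonal δ * Aᵀ = diagonal δ) i) l
  rw [diagonal_apply] at this
  rw [← this, Matrix.mul_apply]
  simp only [mul_diagonal, transpose_apply]

/-- The vectors taking the last value. -/
def rowSet {k : ℕ} (δ : Fin (k + 1) → F) : Set (Fin (k + 1) → F) :=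
  {r | ∑ p, r p * δ p * r p = δ (Fin.last k)}

theorem card_orth_step {k : ℕ} (δ : Fin (k + 1) → F) (hδ : ∀ i, δ i ≠ 0) :
    Nat.card (orthMat δ) ≤
      Nat.card (rowSet δ) * Nat.card (orthMat fun i : Fin k => δ i.castSucc) := by
  classical
  let row : orthMat δ → rowSet δ := fun A => ⟨fun p => A.1 (Fin.last k) p, by
    show ∑ p, A.1 (Fin.last k) p * δ p * A.1 (Fin.last k) p = _
    rw [orth_entry A.2, if_pos rfl]⟩
  rw [Nat.card_congr (Equiv.sigmaFiberEquiv row).symm, Nat.card_sigma]
  refine le_trans (Finset.sum_le_card_nsmul _ _ (Nat.card (orthMat fun i : Fin k => δ i.castSucc))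
    fun r _ => ?_) (by rw [smul_eq_mul, Finset.card_univ, Nat.card_eq_fintype_card (α := rowSet δ)])
  rcases isEmpty_or_nonempty {A // row A = r} with h | ⟨⟨A1, hA1⟩⟩
  · simp
  have hdet : IsUnit A1.1 := by
    rw [Matrix.isUnit_iff_isUnit_det, isUnit_iff_ne_zero]
    intro h0
    have := congrArg Matrix.det (A1.2 : A1.1 * diagonal δ * A1.1ᵀ = diagonal δ)
    rw [det_mul, det_mul, h0, zero_mul, zero_mul, det_diagonal] at this
    exact Finset.prod_ne_zero_iff.2 (fun i _ => hδ i) this.symm
  obtain ⟨u, hu⟩ := hdet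
  have hinv : (u⁻¹).1 * diagonal δ * (u⁻¹).1ᵀ = diagonal δ := by
    have h := (A1.2 : A1.1 * diagonal δ * A1.1ᵀ = diagonal δ)
    rw [← hu] at h
    conv_lhs => rw [← h]
    rw [← mul_assoc, ← mul_assoc, Units.inv_mul, one_mul, mul_assoc, ← transpose_mul, Units.inv_mul,
      transpose_one, mul_one]
  let B : {A // row A = r} → Matrix (Fin (k + 1)) (Fin (k + 1)) F := fun A => A.1.1 * (u⁻¹).1
  have hB : ∀ A, B A ∈ orthMat δ := fun A => by
    show A.1.1 * (u⁻¹).1 * diagonal δ * (A.1.1 * (u⁻¹).1)ᵀ = diagonal δ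
    have h := (A.1.2 : A.1.1 * diagonal δ * A.1.1ᵀ = diagonal δ)
    conv_rhs => rw [← h]
    rw [transpose_mul, show A.1.1 * (u⁻¹).1 * diagonal δ * ((u⁻¹).1ᵀ * A.1.1ᵀ) =
      A.1.1 * ((u⁻¹).1 * diagonal δ * (u⁻¹).1ᵀ) * A.1.1ᵀ by simp only [mul_assoc], hinv]
  have hlast : ∀ A p, B A (Fin.last k) p = if p = Fin.last k then 1 else 0 := fun A p => by
    have hr : ∀ q, A.1.1 (Fin.last k) q = u.1 (Fin.last k) q := fun q => by
      rw [hu]
      exact congrFun (congrArg Subtype.val (A.2.trans hA1.symm)) q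
    show (A.1.1 * (u⁻¹).1) (Fin.last k) p = _
    rw [Matrix.mul_apply]
    simp only [hr]
    rw [← Matrix.mul_apply, Units.mul_inv, Matrix.one_apply]
    exact if_congr eq_comm rfl rfl
  have hcol : ∀ A i, i ≠ Fin.last k → B A i (Fin.last k) = 0 := fun A i hi => by
    have := orth_entry (hB A) i (Fin.last k)
    rw [if_neg hi, Finset.sum_eq_single (Fin.last k), hlast, if_pos rfl, mul_one] at this
    · exact (mul_eq_zero.1 this).resolve_right (hδ _)
    · intro p _ hp; rw [hlast, if_neg hp, mul_zero]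
    · simp
  refine Nat.card_le_card_of_injective (fun A => ⟨(B A).submatrix Fin.castSucc Fin.castSucc, ?_⟩) ?_
  · show _ * _ * _ = _
    ext i l
    have := orth_entry (hB A) i.castSucc l.castSucc
    rw [Fin.sum_univ_castSucc, hcol A i.castSucc (Fin.castSucc_lt_last i).ne, zero_mul, zero_mul,
      add_zero] at this
    rw [Matrix.mul_apply, diagonal_apply]
    simp only [mul_diagonal, transpose_apply, submatrix_apply]
    rw [this]
    simp
  · intro A A' h
    have h' := congrArg Subtype.val h
    have e : B A = B A' := by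
      ext i p
      rcases Fin.eq_castSucc_or_eq_last i with ⟨i, rfl⟩ | rfl
      · rcases Fin.eq_castSucc_or_eq_last p with ⟨p, rfl⟩ | rfl
        · exact congrFun (congrFun h' i) p
        · rw [hcol A _ (Fin.castSucc_lt_last i).ne, hcol A' _ (Fin.castSucc_lt_last i).ne]
      · rw [hlast, hlast]
    have := congrArg (· * u.1) e
    simp only [B, mul_assoc, Units.inv_mul, mul_one] at this
    exact Subtype.ext (Subtype.ext this)

theorem card_rowSet_le {k : ℕ} (δ : Fin (k + 1) → F) (hδ : ∀ i, δ i ≠ 0) :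
    Nat.card (rowSet δ) ≤ 2 * Fintype.card F ^ k := by
  classical
  have h := card_quad_le (diagonal δ) (isSymm_diagonal δ) (v := Pi.single 0 1)
    (by simp [mulVec_diagonal, hδ 0]) (δ (Fin.last k))
  refine le_trans (le_of_eq (Nat.card_congr (Equiv.subtypeEquivRight fun r => ?_))) h
  show ∑ p, r p * δ p * r p = _ ↔ r ⬝ᵥ (diagonal δ *ᵥ r) = _
  simp only [dotProduct, mulVec_diagonal, mul_assoc]

theorem card_conic (δ : Fin 2 → F) (hδ : ∀ i, δ i ≠ 0) (h2 : (2 : F) ≠ 0) :
    Nat.card (rowSet δ) ≤ Fintype.card F + 1 := by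
  classical
  have he : ∀ r : rowSet δ, r.1 0 * δ 0 * r.1 0 + r.1 1 * δ 1 * r.1 1 = δ 1 := fun r => by
    have : ∑ p, r.1 p * δ p * r.1 p = δ (Fin.last 1) := r.2
    rw [Fin.sum_univ_two] at this
    exact this
  let φ : rowSet δ → Option F := fun r =>
    if r.1 0 = 0 then (if r.1 1 = 1 then none else some 0) else some ((r.1 1 - 1) / r.1 0)
  have hx0 : ∀ r : rowSet δ, r.1 0 = 0 → r.1 1 = 1 ∨ r.1 1 = -1 := fun r h => by
    have := he r
    rw [h, zero_mul, zero_mul, zero_add] at this
    refine mul_self_eq_one_iff.1 (mul_left_cancel₀ (hδ 1) ?_)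
    linear_combination this
  have hne0 : ∀ r : rowSet δ, r.1 0 ≠ 0 → (r.1 1 - 1) / r.1 0 ≠ 0 := fun r h => by
    refine div_ne_zero (fun h1 => ?_) h
    have := he r
    rw [sub_eq_zero.1 h1] at this
    exact mul_ne_zero (mul_ne_zero h (hδ 0)) h (by linear_combination this)
  have hinj : Function.Injective φ := by
    intro r r' h
    simp only [φ] at h
    by_cases h0 : r.1 0 = 0 <;> by_cases h0' : r'.1 0 = 0
    · rw [if_pos h0, if_pos h0'] at h
      refine Subtype.ext (funext (Fin.forall_fin_two.2 ⟨h0.trans h0'.symm, ?_⟩))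
      rcases hx0 r h0 with a | a <;> rcases hx0 r' h0' with b | b <;> rw [a, b] <;>
        rw [a, b] at h <;> simp at h
      all_goals simp [h]
    · rw [if_pos h0, if_neg h0'] at h
      by_cases h1 : r.1 1 = 1
      · simp [h1] at h
      · rw [if_neg h1, Option.some.injEq] at h
        exact absurd h.symm (hne0 r' h0')
    · rw [if_neg h0, if_pos h0'] at h
      by_cases h1 : r'.1 1 = 1
      · simp [h1] at h
      · rw [if_neg h1, Option.some.injEq] at h
        exact absurd h (hne0 r h0)
    · rw [if_neg h0, if_neg h0', Option.some.injEq] at h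
      set t := (r.1 1 - 1) / r.1 0 with ht
      have e1 : r.1 1 = 1 + t * r.1 0 := by rw [ht, div_mul_cancel₀ _ h0]; ring
      have e2 : r'.1 1 = 1 + t * r'.1 0 := by rw [h, div_mul_cancel₀ _ h0']; ring
      have f1 : r.1 0 * (δ 0 + δ 1 * t ^ 2) + 2 * δ 1 * t = 0 := by
        refine mul_left_cancel₀ h0 ?_
        have := he r
        rw [e1] at this
        linear_combination this
      have f2 : r'.1 0 * (δ 0 + δ 1 * t ^ 2) + 2 * δ 1 * t = 0 := by
        refine mul_left_cancel₀ h0' ?_
        have := he r'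
        rw [e2] at this
        linear_combination this
      have hcoef : δ 0 + δ 1 * t ^ 2 ≠ 0 := fun hc => by
        rw [hc, mul_zero, zero_add] at f1
        have ht0 : t = 0 :=
          (mul_eq_zero.1 f1).resolve_left (mul_ne_zero h2 (hδ 1))
        rw [ht0] at hc
        exact hδ 0 (by linear_combination hc)
      have h00 : r.1 0 = r'.1 0 := mul_right_cancel₀ hcoef (by linear_combination f1 - f2)
      exact Subtype.ext (funext (Fin.forall_fin_two.2 ⟨h00, by rw [e1, e2, h00]⟩))
  calc Nat.card (rowSet δ) ≤ Nat.card (Option F) := Nat.card_le_card_of_injective φ hinj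
    _ = Fintype.card F + 1 := by rw [Nat.card_eq_fintype_card, Fintype.card_option]

theorem card_orth_le (h2 : (2 : F) ≠ 0) (k : ℕ) :
    ∀ δ : Fin (k + 2) → F, (∀ i, δ i ≠ 0) →
      Nat.card (orthMat δ) ≤
        2 * (Fintype.card F + 1) * ∏ i ∈ Finset.range k, (2 * Fintype.card F ^ (i + 2)) := by
  classical
  induction k with
  | zero =>
    intro δ hδ
    refine (card_orth_step δ hδ).trans ?_
    have h1 : Nat.card (orthMat fun i : Fin 1 => δ i.castSucc) ≤ 2 := by
      refine le_trans (Nat.card_le_card_of_injective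
        (fun A : orthMat fun i : Fin 1 => δ i.castSucc =>
          (⟨A.1 0 0, ?_⟩ : {x : F // x = 1 ∨ x = -1})) ?_) ?_
      · have := orth_entry A.2 0 0
        simp only [Fin.sum_univ_one, if_pos] at this
        refine mul_self_eq_one_iff.1 (mul_left_cancel₀ (hδ (Fin.castSucc 0)) ?_)
        linear_combination this
      · intro A A' h
        refine Subtype.ext (Matrix.ext fun i p => ?_)
        fin_cases i; fin_cases p
        exact congrArg Subtype.val h
      · rw [Nat.card_eq_fintype_card, Fintype.card_subtype]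
        refine (Finset.card_le_card (t := {1, -1}) fun x hx => ?_).trans Finset.card_le_two
        simpa using hx
    calc _ ≤ (Fintype.card F + 1) * 2 := Nat.mul_le_mul (card_conic δ hδ h2) h1
      _ = _ := by simp [mul_comm]
  | succ k ih =>
    intro δ hδ
    refine (card_orth_step δ hδ).trans ?_
    refine (Nat.mul_le_mul (card_rowSet_le δ hδ)
      (ih (fun i => δ i.castSucc) fun i => hδ _)).trans (le_of_eq ?_)
    rw [Finset.prod_range_succ, show k + 1 + 1 = k + 2 from rfl]
    ring

/-- The orbit bound. -/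
theorem orbit_bound (h2 : (2 : F) ≠ 0) {S : Matrix (Fin n) (Fin n) F} (hS : S.IsSymm)
    (hrk : ∀ b y, S ≠ r1 b y) (O : Set (Matrix (Fin n) (Fin n) F)) (hSO : S ∈ O)
    (hO : ∀ a, ∀ T ∈ O, act a T ∈ O) :
    (Fintype.card F ^ n - 1) * (Fintype.card F ^ n - Fintype.card F) ≤
      2 * (Fintype.card F + 1) * Nat.card O := by
  classical
  obtain ⟨a, d, had⟩ := exists_diag_congr h2 hS
  have hact : act a S = diagonal d := had
  set I := Finset.univ.filter fun i => d i ≠ 0 with hI
  have hD : diagonal d = ∑ i ∈ I, r1 (d i) (Pi.single i 1) := by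
    ext p r
    rw [Matrix.sum_apply, diagonal_apply]
    simp only [r1_apply, Pi.single_apply]
    split_ifs with h
    · subst h
      by_cases hp : p ∈ I
      · rw [Finset.sum_eq_single p] <;> simp +contextual [hp, Ne.symm]
      · rw [show d p = 0 by simpa [hI] using hp, Finset.sum_eq_zero]
        intro i hi
        simp [show p ≠ i from fun e => hp (e ▸ hi)]
    · rw [Finset.sum_eq_zero]
      intro i _
      rcases eq_or_ne p i with rfl | hp
      · simp [Ne.symm h]
      · simp [hp]
  have hSback : S = act a⁻¹ (diagonal d) := by rw [← hact, ← act_mul, inv_mul_cancel, act_one]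
  have hk2 : 2 ≤ I.card := by
    by_contra hlt
    push Not at hlt
    rcases Nat.eq_zero_or_pos I.card with h0 | hpos
    · refine hrk 0 0 ?_
      rw [hSback, hD, Finset.card_eq_zero.1 h0, Finset.sum_empty, act_zero]
      simp [r1]
    · obtain ⟨i, hi⟩ := Finset.card_eq_one.1 (show I.card = 1 by omega)
      refine hrk (d i) ((a⁻¹).1 *ᵥ Pi.single i 1) ?_
      rw [hSback, hD, hi, Finset.sum_singleton, act_r1]
  obtain ⟨k, hk⟩ : ∃ k, I.card = k + 2 := ⟨I.card - 2, by omega⟩
  have hkn : k + 2 ≤ n := by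
    rw [← hk]; simpa using Finset.card_le_univ I
  let e : Fin (k + 2) ≃ I := (finCongr hk.symm).trans I.equivFin.symm
  let δ : Fin (k + 2) → F := fun i => d (e i)
  have hδ : ∀ i, δ i ≠ 0 := fun i => (Finset.mem_filter.1 (e i).2).2
  let fM : (Fin (k + 2) → Fin n → F) → Matrix (Fin n) (Fin n) F :=
    fun X => (Matrix.of X)ᵀ * diagonal δ * Matrix.of X
  let X0 : Fin (k + 2) → Fin n → F := fun i => Pi.single (e i).1 1
  have hX0 : LinearIndependent F X0 := by
    have := (Pi.basisFun F (Fin n)).linearIndependent.comp (fun i => (e i).1)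
      (Subtype.val_injective.comp e.injective)
    convert this using 1
    funext i
    simp [X0]
  have hR0 : Matrix.of X0 * (Matrix.of X0)ᵀ = 1 := by
    ext i l
    rw [Matrix.mul_apply, Matrix.one_apply]
    simp only [transpose_apply, Matrix.of_apply, X0, Pi.single_apply, ite_mul, one_mul, zero_mul]
    rw [Finset.sum_ite_eq', if_pos (Finset.mem_univ _)]
    exact if_congr (by rw [Subtype.coe_inj, e.apply_eq_iff_eq]) rfl rfl
  have hf0 : fM X0 = diagonal d := by
    rw [hD]
    ext p r
    show ((Matrix.of X0)ᵀ * diagonal δ * Matrix.of X0) p r = _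
    rw [Matrix.sum_apply, Matrix.mul_apply]
    simp only [mul_diagonal, transpose_apply, Matrix.of_apply, r1_apply]
    rw [← Finset.sum_coe_sort I, ← e.sum_comp]
    refine Finset.sum_congr rfl fun i _ => ?_
    simp only [X0, δ]
    ring
  -- every independent tuple gives a point of the set
  have hmove : ∀ X : {X : Fin (k + 2) → Fin n → F // LinearIndependent F X},
      ∃ g : GL (Fin n) F, Matrix.of X.1 = Matrix.of X0 * g.1ᵀ := fun X => by
    obtain ⟨g, hg⟩ := exists_gl_tuple hX0 X.2
    refine ⟨g, Matrix.ext fun i p => ?_⟩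
    rw [Matrix.of_apply, ← hg i]
    simp [Matrix.mulVec, dotProduct, Matrix.mul_apply, mul_comm]
  let f : {X : Fin (k + 2) → Fin n → F // LinearIndependent F X} → O := fun X => ⟨fM X.1, by
    obtain ⟨g, hg⟩ := hmove X
    have e : fM X.1 = act g (act a S) := by
      rw [hact, ← hf0]
      simp only [fM, act, hg, transpose_mul, transpose_transpose, Matrix.mul_assoc]
    rw [e]
    exact hO g _ (hO a S hSO)⟩
  have hfib : ∀ T : O, Nat.card {X // f X = T} ≤ Nat.card (orthMat δ) := by
    intro T
    rcases isEmpty_or_nonempty {X // f X = T} with h | ⟨⟨X1, hX1⟩⟩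
    · simp
    obtain ⟨g1, hg1⟩ := hmove X1
    have key : ∀ X : {X // f X = T}, ∃ A : orthMat δ,
        Matrix.of X.1.1 = A.1ᵀ * Matrix.of X1.1 := by
      intro X
      obtain ⟨g, hg⟩ := hmove X.1
      have heq : fM X.1.1 = fM X1.1 := congrArg Subtype.val (X.2.trans hX1.symm)
      set M := Matrix.of X.1.1
      set M1 := Matrix.of X1.1
      set R := (g⁻¹).1ᵀ * (Matrix.of X0)ᵀ
      set R1 := (g1⁻¹).1ᵀ * (Matrix.of X0)ᵀ
      have hR : M * R = 1 := by
        rw [hg]
        simp only [R]
        rw [Matrix.mul_assoc, ← Matrix.mul_assoc g.1ᵀ, ← transpose_mul, Units.inv_mul,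
          transpose_one, Matrix.one_mul, hR0]
      have hR1 : M1 * R1 = 1 := by
        rw [hg1]
        simp only [R1]
        rw [Matrix.mul_assoc, ← Matrix.mul_assoc g1.1ᵀ, ← transpose_mul, Units.inv_mul,
          transpose_one, Matrix.one_mul, hR0]
      let δi : Fin (k + 2) → F := fun i => (δ i)⁻¹
      have hδδ : diagonal δ * diagonal δi = 1 := by
        rw [diagonal_mul_diagonal, ← diagonal_one]
        congr 1; funext i; exact mul_inv_cancel₀ (hδ i)
      set A := diagonal δ * (M1 * R) * diagonal δi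
      have hMA : Mᵀ = M1ᵀ * A := by
        have h := congrArg (fun N => N * R * diagonal δi) (heq.symm)
        simp only [fM] at h
        change M1ᵀ * diagonal δ * M1 * R * diagonal δi = Mᵀ * diagonal δ * M * R * diagonal δi at h
        rw [Matrix.mul_assoc _ M R, hR, Matrix.mul_one, Matrix.mul_assoc _ (diagonal δ) (diagonal δi),
          hδδ, Matrix.mul_one] at h
        rw [← h]
        simp only [A, Matrix.mul_assoc]
      have hM : M = Aᵀ * M1 := by rw [← transpose_transpose M, hMA, transpose_mul, transpose_transpose]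
      refine ⟨⟨A, ?_⟩, hM⟩
      show A * diagonal δ * Aᵀ = diagonal δ
      have h := congrArg (fun N => R1ᵀ * N * R1) heq
      simp only [fM] at h
      change R1ᵀ * (Mᵀ * diagonal δ * M) * R1 = R1ᵀ * (M1ᵀ * diagonal δ * M1) * R1 at h
      rw [hM] at h
      have e1 : R1ᵀ * M1ᵀ = 1 := by rw [← transpose_mul, hR1, transpose_one]
      rwa [show R1ᵀ * ((Aᵀ * M1)ᵀ * diagonal δ * (Aᵀ * M1)) * R1 =
          (R1ᵀ * M1ᵀ) * (A * diagonal δ * Aᵀ) * (M1 * R1) by
            simp only [transpose_mul, transpose_transpose, Matrix.mul_assoc],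
        show R1ᵀ * (M1ᵀ * diagonal δ * M1) * R1 =
          (R1ᵀ * M1ᵀ) * diagonal δ * (M1 * R1) by simp only [Matrix.mul_assoc],
        e1, hR1, Matrix.one_mul, Matrix.mul_one, Matrix.one_mul, Matrix.mul_one] at h
    choose Af hAf using key
    refine Nat.card_le_card_of_injective Af fun X Y h => ?_
    refine Subtype.ext (Subtype.ext (Matrix.of.injective ?_))
    rw [hAf, hAf, h]
  have hcount : (∏ i : Fin (k + 2), (Fintype.card F ^ n - Fintype.card F ^ i.val)) ≤
      Nat.card O * Nat.card (orthMat δ) := by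
    have h1 := card_linearIndependent (K := F) (V := Fin n → F) (k := k + 2)
      (by rw [Module.finrank_fintype_fun_eq_card, Fintype.card_fin]; exact hkn)
    rw [Module.finrank_fintype_fun_eq_card, Fintype.card_fin] at h1
    rw [← h1, Nat.card_congr (Equiv.sigmaFiberEquiv f).symm, Nat.card_sigma]
    refine (Finset.sum_le_card_nsmul _ _ _ fun T _ => hfib T).trans (le_of_eq ?_)
    rw [smul_eq_mul, Finset.card_univ, Nat.card_eq_fintype_card (α := O)]
  have hq : 3 ≤ Fintype.card F := by
    by_contra hlt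
    push Not at hlt
    have h1 := Fintype.one_lt_card (α := F)
    have hq2 : Fintype.card F = 2 := by omega
    have := FiniteField.cast_card_eq_zero F
    rw [hq2] at this
    exact h2 (by exact_mod_cast this)
  set q := Fintype.card F
  rw [Fin.prod_univ_eq_prod_range (fun i => q ^ n - q ^ i) (k + 2), Finset.prod_range_succ',
    Finset.prod_range_succ', pow_zero, zero_add, pow_one] at hcount
  have hle : ∏ i ∈ Finset.range k, (2 * q ^ (i + 2)) ≤
      ∏ i ∈ Finset.range k, (q ^ n - q ^ (i + 1 + 1)) := by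
    refine Finset.prod_le_prod' fun i hi => ?_
    have hin : i + 3 ≤ n := by have := Finset.mem_range.1 hi; omega
    have := Nat.pow_le_pow_right (show 0 < q by omega) hin
    have h3 : 3 * q ^ (i + 2) ≤ q ^ (i + 3) := by
      rw [pow_succ q (i + 2), mul_comm]; exact Nat.mul_le_mul_left _ hq
    rw [show i + 1 + 1 = i + 2 from rfl]
    omega
  have hpos : 0 < ∏ i ∈ Finset.range k, (2 * q ^ (i + 2)) :=
    Finset.prod_pos fun i _ => by positivity
  have hO' := hcount.trans (Nat.mul_le_mul_left (Nat.card O) (card_orth_le h2 k δ hδ))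
  refine Nat.le_of_mul_le_mul_left ?_ hpos
  calc (∏ i ∈ Finset.range k, (2 * q ^ (i + 2))) * ((q ^ n - 1) * (q ^ n - q))
      ≤ (∏ i ∈ Finset.range k, (q ^ n - q ^ (i + 1 + 1))) * ((q ^ n - 1) * (q ^ n - q)) :=
        Nat.mul_le_mul_right _ hle
    _ = (∏ i ∈ Finset.range k, (q ^ n - q ^ (i + 1 + 1))) * (q ^ n - q) * (q ^ n - 1) := by ring
    _ ≤ _ := hO'
    _ = _ := by ring

end Cfsg.Agent.Lib.SpOddDeg63
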