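import Cfsg.Agent.Lib.SpOddDeg63.Elements
import Cfsg.Agent.Lib.UniDeg48.Eigen

/-!
The decomposition of a representation of `Sp_{2n}(F)` under the lower unitriangular subgroup,
indexed by symmetric matrices.
-/

set_option autoImplicit false

namespace Cfsg.Agent.Lib.SpOddDeg63

open Matrix Cfsg.Agent.Lib.MinDegree Cfsg.Agent.Lib.UniDeg48

variable {n : ℕ} {F : Type*} [Field F] [Fintype F]

noncomputable instance instFintypeSymMats : Fintype (symMats n F) := Fintype.ofFinite _

/-- A symmetric matrix of rank at most one. -/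
def r1 (b : F) (y : Fin n → F) : Matrix (Fin n) (Fin n) F := b • vecMulVec y y

omit [Fintype F] in
theorem r1_apply (b : F) (y : Fin n → F) (i l : Fin n) : r1 b y i l = b * (y i * y l) := rfl

omit [Fintype F] in
theorem r1_isSymm (b : F) (y : Fin n → F) : (r1 b y).IsSymm := by
  ext i l
  simp only [transpose_apply, r1_apply]; ring

omit [Fintype F] in
theorem r1_ne_zero {b : F} {y : Fin n → F} (hb : b ≠ 0) (hy : y ≠ 0) : r1 b y ≠ 0 := by
  obtain ⟨i, hi⟩ := Function.ne_iff.1 hy
  intro h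
  have := congrFun (congrFun h i) i
  rw [r1_apply, Matrix.zero_apply] at this
  simp_all

/-- Congruence by an element of `GL`. -/
def act (a : GL (Fin n) F) (S : Matrix (Fin n) (Fin n) F) : Matrix (Fin n) (Fin n) F :=
  a.1 * S * a.1ᵀ

omit [Fintype F] in
theorem act_isSymm (a : GL (Fin n) F) {S : Matrix (Fin n) (Fin n) F} (hS : S.IsSymm) :
    (act a S).IsSymm := by
  show (a.1 * S * a.1ᵀ)ᵀ = a.1 * S * a.1ᵀ
  rw [transpose_mul, transpose_mul, transpose_transpose, hS.eq, mul_assoc]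

omit [Fintype F] in
theorem act_mul (a b : GL (Fin n) F) (S : Matrix (Fin n) (Fin n) F) :
    act (a * b) S = act a (act b S) := by
  simp [act, transpose_mul, mul_assoc]

omit [Fintype F] in
theorem act_one (S : Matrix (Fin n) (Fin n) F) : act 1 S = S := by simp [act]

omit [Fintype F] in
theorem act_inj (a : GL (Fin n) F) {S T : Matrix (Fin n) (Fin n) F} (h : act a S = act a T) :
    S = T := by
  have := congrArg (act a⁻¹) h
  rwa [← act_mul, ← act_mul, inv_mul_cancel, act_one, act_one] at this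

omit [Fintype F] in
theorem act_zero (a : GL (Fin n) F) : act a (0 : Matrix (Fin n) (Fin n) F) = 0 := by simp [act]

omit [Fintype F] in
theorem act_ne_zero (a : GL (Fin n) F) {S : Matrix (Fin n) (Fin n) F} (h : S ≠ 0) : act a S ≠ 0 :=
  fun h0 => h (act_inj a (h0.trans (act_zero a).symm))

omit [Fintype F] in
theorem act_r1 (a : GL (Fin n) F) (b : F) (y : Fin n → F) :
    act a (r1 b y) = r1 b (a.1 *ᵥ y) := by
  rw [act, r1, r1, Matrix.mul_smul, Matrix.smul_mul, mul_vecMulVec, vecMulVec_mul, vecMul_transpose]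

omit [Fintype F] in
theorem trace_mul_sjj (S : Matrix (Fin n) (Fin n) F) (j : Fin n) (a : F) :
    trace (S * (sjj j a).1) = S j j * a := by
  simp [sjj, Matrix.trace, Matrix.mul_apply, single_apply, Finset.sum_ite_eq', eq_comm, ite_and]

omit [Fintype F] in
theorem trace_mul_sjk {S : Matrix (Fin n) (Fin n) F} (hS : S.IsSymm) (j k : Fin n) (b : F) :
    trace (S * (sjk j k b).1) = 2 * b * S j k := by
  have h1 : ∀ p r : Fin n, trace (S * single p r b) = S r p * b := fun p r => by
    simp [Matrix.trace, Matrix.mul_apply, single_apply, Finset.sum_ite_eq', eq_comm, ite_and]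
  show trace (S * (single j k b + single k j b)) = _
  rw [Matrix.mul_add, trace_add, h1, h1, hS.apply j k]
  ring

omit [Fintype F] in
theorem ne_one_of_eq (ψ : AddChar F ℂ) (hψ : ψ 1 ≠ 1) {x y : F} (h : x = y + 1) :
    ψ x ≠ ψ y := by
  rw [h, AddChar.map_add_eq_mul]
  intro h1
  exact hψ (mul_left_cancel₀ (AddChar.val_isUnit ψ y).ne_zero (h1.trans (mul_one _).symm))

omit [Fintype F] in
/-- The character determines the entries off a given row and column. -/
theorem entries_eq (ψ : AddChar F ℂ) (h2 : (2 : F) ≠ 0) (hψ : ψ 1 ≠ 1)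
    {S T : Matrix (Fin n) (Fin n) F} (hS : S.IsSymm) (hT : T.IsSymm) (R : Fin n → Prop)
    (h : ∀ B : symMats n F, (∀ p, R p → ∀ r, B.1 p r = 0) →
      symChar ψ S B = symChar ψ T B) {k l : Fin n} (hk : ¬ R k) (hl : ¬ R l) : S k l = T k l := by
  by_contra hne
  have hc : S k l - T k l ≠ 0 := sub_ne_zero.2 hne
  rcases eq_or_ne k l with rfl | hkl
  · have := h (sjj k (S k k - T k k)⁻¹) fun p hp r => by
      show single k k _ p r = (0 : F)
      rw [single_apply, if_neg]; rintro ⟨rfl, -⟩; exact hk hp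
    rw [symChar_apply, symChar_apply, trace_mul_sjj, trace_mul_sjj] at this
    refine ne_one_of_eq ψ hψ ?_ this
    have := mul_inv_cancel₀ hc
    linear_combination this
  · have := h (sjk k l (2 * (S k l - T k l))⁻¹) fun p hp r => by
      show (single k l _ + single l k _ : Matrix (Fin n) (Fin n) F) p r = (0 : F)
      rw [Matrix.add_apply, single_apply, single_apply, if_neg, if_neg, add_zero]
      · rintro ⟨rfl, -⟩; exact hl hp
      · rintro ⟨rfl, -⟩; exact hk hp
    rw [symChar_apply, symChar_apply, trace_mul_sjk hS, trace_mul_sjk hT] at this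
    refine ne_one_of_eq ψ hψ ?_ this
    have := mul_inv_cancel₀ (mul_ne_zero h2 hc)
    linear_combination this

omit [Fintype F] in
theorem symChar_inj (ψ : AddChar F ℂ) (h2 : (2 : F) ≠ 0) (hψ : ψ 1 ≠ 1)
    {S T : Matrix (Fin n) (Fin n) F} (hS : S.IsSymm) (hT : T.IsSymm)
    (h : symChar ψ S = symChar ψ T) : S = T :=
  Matrix.ext fun k l => entries_eq ψ h2 hψ hS hT (fun _ => False)
    (fun B _ => DFunLike.congr_fun h B) not_false not_false

variable {V : Type*} [AddCommGroup V] [Module ℂ V]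
variable (ψ : AddChar F ℂ) (ρ : Representation ℂ (symplecticGroup (Fin n) F) V)

/-- The eigenspace of a symmetric matrix. -/
abbrev ev (S : Matrix (Fin n) (Fin n) F) : Submodule ℂ V :=
  eigSub ρ (lowerUni n F) (symChar ψ S)

/-- The projection on the eigenspace. -/
noncomputable abbrev pr (S : Matrix (Fin n) (Fin n) F) : Module.End ℂ V :=
  eigenProj ρ (lowerUni n F) (symChar ψ S)

variable {ψ ρ}

omit [Fintype F] in
theorem mem_ev {S : Matrix (Fin n) (Fin n) F} {v : V} :
    v ∈ ev ψ ρ S ↔ ∀ B : symMats n F, ρ (uu B) v = symChar ψ S B • v :=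
  mem_eigSub ρ (lowerUni n F)

theorem pr_mem (S : Matrix (Fin n) (Fin n) F) (v : V) : pr ψ ρ S v ∈ ev ψ ρ S :=
  mem_ev.2 fun B => eigenProj_mem ρ _ _ v B

theorem pr_self {S : Matrix (Fin n) (Fin n) F} {v : V} (hv : v ∈ ev ψ ρ S) : pr ψ ρ S v = v := by
  rw [mem_ev] at hv
  rw [pr, eigenProj_apply]
  simp only [uu] at hv
  simp only [hv, smul_smul, ← AddChar.map_add_eq_mul, neg_add_cancel, AddChar.map_zero_eq_one,
    one_smul, Finset.sum_const, Finset.card_univ]
  rw [← Nat.cast_smul_eq_nsmul ℂ, smul_smul,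
    inv_mul_cancel₀ (Nat.cast_ne_zero.2 Fintype.card_ne_zero), one_smul]

theorem pr_uu (S : Matrix (Fin n) (Fin n) F) (B : symMats n F) (v : V) :
    pr ψ ρ S (ρ (uu B) v) = symChar ψ S B • pr ψ ρ S v := by
  rw [← eigenProj_mem ρ (lowerUni n F) (symChar ψ S) v B, pr, eigenProj_apply, eigenProj_apply,
    map_smul, map_sum]
  congr 1
  refine Finset.sum_congr rfl fun A _ => ?_
  have e : uu A * uu B = uu B * uu A := by rw [← uu_add, ← uu_add, add_comm]
  rw [map_smul]
  show _ • ρ (uu A) (ρ (uu B) v) = _ • ρ (uu B) (ρ (uu A) v)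
  rw [← Module.End.mul_apply, ← map_mul, e, map_mul, Module.End.mul_apply]

/-- A joint eigenvector of some unipotents projects only to compatible characters. -/
theorem char_eq_of_pr_ne_zero {S : Matrix (Fin n) (Fin n) F} {v : V} (h : pr ψ ρ S v ≠ 0)
    {B : symMats n F} {c : ℂ} (hv : ρ (uu B) v = c • v) : symChar ψ S B = c := by
  have h1 := pr_uu (ψ := ψ) (ρ := ρ) S B v
  rw [hv, map_smul] at h1
  exact (smul_left_injective ℂ h h1).symm

variable (h2 : (2 : F) ≠ 0) (hψ : ψ 1 ≠ 1)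

include h2 hψ in
theorem pr_of_ne {S T : Matrix (Fin n) (Fin n) F} (hS : S.IsSymm) (hT : T.IsSymm) (hne : S ≠ T)
    {v : V} (hv : v ∈ ev ψ ρ T) : pr ψ ρ S v = 0 := by
  by_contra h
  refine hne (symChar_inj ψ h2 hψ hS hT ?_)
  ext B
  exact char_eq_of_pr_ne_zero h (mem_ev.1 hv B)

include h2 hψ in
/-- A vector lies in a submodule as soon as all its projections do. -/
theorem mem_of_pr {K : Submodule ℂ V} {v : V}
    (h : ∀ S : Matrix (Fin n) (Fin n) F, S.IsSymm → pr ψ ρ S v ∈ K) : v ∈ K := by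
  rw [← sum_eigenProj ρ (lowerUni n F) v]
  refine K.sum_mem fun χ _ => ?_
  obtain ⟨S, hS, rfl⟩ := symChar_surjective h2 hψ χ
  exact h S hS

include h2 hψ in
theorem eq_of_forall_ev {W : Type*} [AddCommGroup W] [Module ℂ W] {f g : V →ₗ[ℂ] W}
    (h : ∀ S : Matrix (Fin n) (Fin n) F, S.IsSymm → ∀ v ∈ ev ψ ρ S, f v = g v) : f = g := by
  refine LinearMap.ext fun v => ?_
  have : v ∈ LinearMap.ker (f - g) := mem_of_pr h2 hψ fun S hS => by
    rw [LinearMap.mem_ker, LinearMap.sub_apply, h S hS _ (pr_mem S v), sub_self]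
  rwa [LinearMap.mem_ker, LinearMap.sub_apply, sub_eq_zero] at this

omit [Fintype F] in
theorem symChar_act (a : GL (Fin n) F) (S : Matrix (Fin n) (Fin n) F) (B : symMats n F) :
    symChar ψ (act a S) B = symChar ψ S (congrHom a.1 B) := by
  show ψ (trace (a.1 * S * a.1ᵀ * B.1)) = ψ (trace (S * (a.1ᵀ * B.1 * a.1)))
  rw [mul_assoc (a.1 * S), mul_assoc a.1 S, trace_mul_comm, mul_assoc, mul_assoc]

omit [Fintype F] in
theorem uu_levi (a : GL (Fin n) F) (B : symMats n F) :
    uu B * leviSp n F a = leviSp n F a * uu (congrHom a.1 B) := by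
  rw [uu, uu, ← leviSp_conj_lowerUni]; group

omit [Fintype F] in
theorem levi_mem_ev (a : GL (Fin n) F) {S : Matrix (Fin n) (Fin n) F} {v : V}
    (hv : v ∈ ev ψ ρ S) : ρ (leviSp n F a) v ∈ ev ψ ρ (act a S) := by
  rw [mem_ev] at hv ⊢
  intro B
  rw [← Module.End.mul_apply, ← map_mul, uu_levi, map_mul, Module.End.mul_apply, hv, map_smul,
    symChar_act]

include h2 hψ in
theorem pr_levi (a : GL (Fin n) F) {S : Matrix (Fin n) (Fin n) F} (hS : S.IsSymm) (v : V) :
    pr ψ ρ (act a S) (ρ (leviSp n F a) v) = ρ (leviSp n F a) (pr ψ ρ S v) := by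
  refine LinearMap.congr_fun (?_ : pr ψ ρ (act a S) ∘ₗ ρ (leviSp n F a) =
    ρ (leviSp n F a) ∘ₗ pr ψ ρ S) v
  refine eq_of_forall_ev (ψ := ψ) (ρ := ρ) h2 hψ fun T hT w hw => ?_
  rw [LinearMap.comp_apply, LinearMap.comp_apply]
  rcases eq_or_ne S T with rfl | hne
  · rw [pr_self hw, pr_self (levi_mem_ev a hw)]
  · rw [pr_of_ne h2 hψ hS hT hne hw, map_zero,
        pr_of_ne h2 hψ (act_isSymm a hS) (act_isSymm a hT) (fun h => hne (act_inj a h))
          (levi_mem_ev a hw)]

omit [Fintype F] in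
theorem uu_apply_ev {S : Matrix (Fin n) (Fin n) F} {v : V} (hv : v ∈ ev ψ ρ S) (B : symMats n F) :
    ρ (uu B) v = symChar ψ S B • v := mem_ev.1 hv B

omit [Fintype F] in
theorem rho_inv_cancel (g : symplecticGroup (Fin n) F) (v : V) : ρ g⁻¹ (ρ g v) = v := by
  rw [← Module.End.mul_apply, ← map_mul, inv_mul_cancel, map_one, Module.End.one_apply]

omit [Fintype F] in
theorem rho_inv_cancel' (g : symplecticGroup (Fin n) F) (v : V) : ρ g (ρ g⁻¹ v) = v := by
  rw [← Module.End.mul_apply, ← map_mul, mul_inv_cancel, map_one, Module.End.one_apply]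

variable (ψ ρ) in
/-- Only matrices of rank at most one occur. -/
def RankOne : Prop :=
  ∀ S : Matrix (Fin n) (Fin n) F, S.IsSymm → ev ψ ρ S ≠ ⊥ → ∃ b y, S = r1 b y

variable (ρ) in
/-- The central element acts as a scalar. -/
def NegScalar : Prop :=
  ∃ ε : ℂ, ∀ v : V, ρ (leviSp n F (-1)) v = ε • v

end Cfsg.Agent.Lib.SpOddDeg63
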