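import Cfsg.Agent.Lib.SpOddDeg63.Compression
import Cfsg.Agent.Lib.SpOddDeg63.Linear

/-!
The stabilizer of a rank-one matrix in the Levi subgroup acts on its eigenspace by scalars.
-/

set_option autoImplicit false

namespace Cfsg.Agent.Lib.SpOddDeg63

open Matrix Cfsg.Agent.Lib.MinDegree Cfsg.Agent.Lib.UniDeg48

variable {n : ℕ} {F : Type*} [Field F] [Fintype F]
variable {V : Type*} [AddCommGroup V] [Module ℂ V]
variable (ψ : AddChar F ℂ) (ρ : Representation ℂ (symplecticGroup (Fin n) F) V)

/-- Acting on the base eigenspace by a scalar. -/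
def Scal (o : Fin n) (α : F) (a : GL (Fin n) F) : Prop :=
  ∃ μ : ℂ, ∀ c ∈ ev ψ ρ (r1 α (Pi.single o 1)), ρ (leviSp n F a) c = μ • c

variable {ψ ρ}

omit [Fintype F] in
theorem Scal.mul {o : Fin n} {α : F} {a b : GL (Fin n) F} (ha : Scal ψ ρ o α a)
    (hb : Scal ψ ρ o α b) : Scal ψ ρ o α (a * b) := by
  obtain ⟨μ, hμ⟩ := ha
  obtain ⟨ν, hν⟩ := hb
  refine ⟨ν * μ, fun c hc => ?_⟩
  rw [map_mul, map_mul, Module.End.mul_apply, hν c hc, map_smul, hμ c hc, smul_smul]

omit [Fintype F] in
theorem scal_one (o : Fin n) (α : F) : Scal ψ ρ o α 1 := ⟨1, fun c _ => by simp⟩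

omit [Fintype F] in
theorem base_mem {o : Fin n} {α : F} {a : GL (Fin n) F}
    (ha : a.1 *ᵥ Pi.single o 1 = Pi.single o 1) {c : V}
    (hc : c ∈ ev ψ ρ (r1 α (Pi.single o 1))) :
    ρ (leviSp n F a) c ∈ ev ψ ρ (r1 α (Pi.single o 1)) := by
  have := levi_mem_ev a hc
  rwa [act_r1, ha] at this

omit [Fintype F] in
theorem dgl_congr {d d' : Fin n → F} {h : ∀ i, d i ≠ 0} {h' : ∀ i, d' i ≠ 0} (e : d = d') :
    dgl d h = dgl d' h' := by
  subst e; rfl

variable (h2 : (2 : F) ≠ 0) (hψ : ψ 1 ≠ 1) (hR : RankOne ψ ρ)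

omit [Fintype F] in
theorem dgl_update_ne_zero (j : Fin n) {d : F} (hd : d ≠ 0) :
    ∀ i, Function.update (1 : Fin n → F) j d i ≠ 0 := fun i => by
  rcases eq_or_ne i j with rfl | hi <;> simp [*]

include h2 hψ hR in
theorem scal_diag_one {o j : Fin n} (hjo : j ≠ o) {α : F} (hα : α ≠ 0) {d : F} (hd : d ≠ 0) :
    Scal ψ ρ o α (dgl (Function.update 1 j d) (dgl_update_ne_zero j hd)) := by
  let L : Line n F := ⟨j, o, hjo, α, hα, Pi.single o 1, Pi.single_eq_of_ne hjo _, by simp⟩
  have hfix : (dgl (Function.update 1 j d) (dgl_update_ne_zero j hd)).1 *ᵥ Pi.single o 1 =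
      (Pi.single o 1 : Fin n → F) := by
    show diagonal (Function.update 1 j d) *ᵥ Pi.single o 1 = _
    funext p
    rw [mulVec_diagonal]
    rcases eq_or_ne p o with rfl | hp <;> simp [*, Ne.symm hjo]
  have he : leviSp n F (dgl (Function.update 1 j d) (dgl_update_ne_zero j hd)) =
      e2 j d 0 0 d⁻¹ (by rw [mul_inv_cancel₀ hd]; ring) := by
    rw [levi_dgl, e2]
    refine dsl_congr rfl ?_ ?_ ?_ <;> funext i <;>
      (rcases eq_or_ne i j with rfl | hi <;> simp [*])
  obtain ⟨μ, hμ⟩ := (L.pres_diag h2 hψ hR hd).scalar L h2 hψ fun c hc => by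
    show ρ (e2 j d 0 0 d⁻¹ _) c ∈ _
    rw [L.mat_zero] at hc ⊢
    rw [← he]
    exact base_mem hfix hc
  refine ⟨μ, fun c hc => ?_⟩
  rw [he]
  exact hμ c (by rw [L.mat_zero]; exact hc)

include h2 hψ hR in
theorem scal_diag {o : Fin n} {α : F} (hα : α ≠ 0) (d : Fin n → F) (hd : ∀ i, d i ≠ 0)
    (ho : d o = 1) : Scal ψ ρ o α (dgl d hd) := by
  classical
  suffices H : ∀ s : Finset (Fin n), ∀ h, Scal ψ ρ o α (dgl (fun i => if i ∈ s then d i else 1) h) by
    have := H Finset.univ (fun i => by simp [hd i])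
    rwa [dgl_congr (h' := hd) (funext fun i => by simp)] at this
  intro s
  induction s using Finset.induction with
  | empty =>
    intro h
    convert scal_one o α
    exact Units.ext (by show diagonal _ = 1; simp)
  | @insert j s hj ih =>
    intro h
    have h' : ∀ i, (if i ∈ s then d i else 1) ≠ 0 := fun i => by split_ifs <;> simp [hd i]
    rcases eq_or_ne j o with rfl | hjo
    · convert ih h' using 1
      refine dgl_congr (funext fun i => ?_)
      rcases eq_or_ne i j with rfl | hi <;> simp [*]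
    · convert (scal_diag_one h2 hψ hR hjo hα (hd j)).mul (ih h') using 1
      refine Units.ext ?_
      show diagonal _ = diagonal _ * diagonal _
      rw [diagonal_mul_diagonal]
      congr 1
      funext i
      rcases eq_or_ne i j with rfl | hi <;> simp [*]

include h2 hψ hR in
theorem scal_tv {o p r : Fin n} (hpr : p ≠ r) (hro : r ≠ o) {α : F} (hα : α ≠ 0) (s : F) :
    Scal ψ ρ o α (tv p r hpr s) := by
  obtain ⟨μ, hμ⟩ := scal_diag_one h2 hψ hR hro hα (neg_ne_zero.2 (one_ne_zero (α := F)))
  set hh := dgl (Function.update (1 : Fin n → F) r (-1))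
    (dgl_update_ne_zero r (neg_ne_zero.2 one_ne_zero))
  have hcomm : ∀ t : F, hh * tv p r hpr t = tv p r hpr (-t) * hh := fun t => by
    refine Units.ext ?_
    show diagonal _ * transvection p r t = transvection p r (-t) * diagonal _
    ext i l
    simp only [transvection, Matrix.mul_add, Matrix.add_mul, mul_one, one_mul, Matrix.add_apply,
      diagonal_mul, mul_diagonal, single_apply, diagonal_apply, Function.update_apply, Pi.one_apply]
    by_cases hip : p = i ∧ r = l
    · obtain ⟨rfl, rfl⟩ := hip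
      simp [hpr]
    · rcases eq_or_ne i l with rfl | hil <;>
        simp [hip, *, Matrix.one_apply, Matrix.neg_apply]
  have hfixv : ∀ t : F, (tv p r hpr t).1 *ᵥ Pi.single o 1 = (Pi.single o 1 : Fin n → F) :=
    fun t => by rw [tv_mulVec, Pi.single_eq_of_ne hro]; simp
  refine ⟨1, fun c hc => ?_⟩
  have key : ∀ t, μ • ρ (leviSp n F (tv p r hpr t)) c =
      μ • ρ (leviSp n F (tv p r hpr (-t))) c := fun t => by
    rw [← hμ _ (base_mem (hfixv t) hc), ← map_smul, ← hμ c hc, ← Module.End.mul_apply,
      ← Module.End.mul_apply, ← map_mul, ← map_mul, ← map_mul, ← map_mul, hcomm]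
  by_cases hμ0 : μ = 0
  · have : c = 0 := by
      have := congrArg (ρ (leviSp n F hh)⁻¹) (hμ c hc)
      rwa [rho_inv_cancel, hμ0, zero_smul, map_zero] at this
    simp [this]
  have h := smul_right_injective V hμ0 (key (s / 2))
  have h' := congrArg (ρ (leviSp n F (tv p r hpr (s / 2)))) h
  rw [← Module.End.mul_apply, ← Module.End.mul_apply, ← map_mul, ← map_mul, ← map_mul, ← map_mul,
    ← tv_add, ← tv_add, add_neg_cancel, tv_zero, map_one, map_one, Module.End.one_apply] at h'
  rw [one_smul]
  conv_rhs => rw [← h']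
  congr 3
  congr 1
  field_simp
  ring

/-- A unit adding multiples of the `p`-th coordinate to the others. -/
def colUnit (p : Fin n) (t : Fin n → F) (ht : t p = 0) : GL (Fin n) F :=
  ⟨1 + vecMulVec t (Pi.single p 1), 1 + vecMulVec (-t) (Pi.single p 1),
    by
      rw [mul_add, mul_one, add_mul, one_mul, vecMulVec_mul_vecMulVec, add_assoc]
      simp [ht, neg_vecMulVec],
    by
      rw [mul_add, mul_one, add_mul, one_mul, vecMulVec_mul_vecMulVec, add_assoc]
      simp [ht, neg_vecMulVec]⟩

omit [Fintype F] in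
theorem colUnit_mulVec (p : Fin n) (t : Fin n → F) (ht : t p = 0) (x : Fin n → F) :
    (colUnit p t ht).1 *ᵥ x = x + x p • t := by
  show (1 + vecMulVec t (Pi.single p 1)) *ᵥ x = _
  rw [add_mulVec, one_mulVec, vecMulVec_mulVec]
  congr 1
  funext i
  simp [mul_comm]

include h2 hψ hR in
theorem scal_colUnit {o p : Fin n} (hpo : p ≠ o) {α : F} (hα : α ≠ 0) (t : Fin n → F)
    (ht : t p = 0) : Scal ψ ρ o α (colUnit p t ht) := by
  classical
  suffices H : ∀ s : Finset (Fin n), ∀ h, Scal ψ ρ o α (colUnit p (fun i => if i ∈ s then t i else 0) h) by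
    have := H Finset.univ (by simp [ht])
    convert this using 1
    exact Units.ext (by simp [colUnit])
  intro s
  induction s using Finset.induction with
  | empty =>
    intro h
    convert scal_one o α
    refine Units.ext ?_
    show 1 + vecMulVec _ _ = 1
    ext i l; simp [vecMulVec_apply]
  | @insert j s hj ih =>
    intro h
    have h' : (if p ∈ s then t p else 0) = 0 := by simp [ht]
    rcases eq_or_ne j p with rfl | hjp
    · convert ih h' using 1
      refine Units.ext ?_
      show (1 : Matrix (Fin n) (Fin n) F) + vecMulVec _ _ = 1 + vecMulVec _ _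
      congr 2
      funext i
      rcases eq_or_ne i j with rfl | hi <;> simp [*]
    · convert (scal_tv h2 hψ hR hjp hpo hα (t j)).mul (ih h') using 1
      refine Units.ext ?_
      show 1 + vecMulVec (fun i => if i ∈ insert j s then t i else 0) (Pi.single p 1) =
        transvection j p (t j) * (1 + vecMulVec (fun i => if i ∈ s then t i else 0) (Pi.single p 1))
      rw [transvection, mul_add, mul_one, add_mul (1 : Matrix (Fin n) (Fin n) F), one_mul,
        mul_vecMulVec]
      have hz : single j p (t j) *ᵥ (fun i => if i ∈ s then t i else 0) = 0 := by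
        funext i
        simp [Matrix.mulVec, dotProduct, single_apply, ht, ite_and, Finset.sum_ite_eq]
      rw [hz, zero_vecMulVec, add_zero]
      ext i l
      simp only [Matrix.add_apply, vecMulVec_apply, single_apply, Pi.single_apply, Matrix.one_apply]
      rcases eq_or_ne l p with rfl | hl
      · rcases eq_or_ne i j with rfl | hi <;> simp [*, Ne.symm]
      · simp [hl, Ne.symm hl]

include h2 hψ hR in
theorem scal_fix_aux {o : Fin n} {α : F} (hα : α ≠ 0) (Q : Finset (Fin n)) :
    o ∈ Q → ∀ a : GL (Fin n) F, (∀ q ∈ Q, a.1 *ᵥ Pi.single q 1 = Pi.single q 1) →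
      Scal ψ ρ o α a := by
  classical
  induction hm : (Finset.univ \ Q).card using Nat.strong_induction_on generalizing Q with
  | _ m ih => ?_
  intro hoQ a ha
  by_cases hQ : Q = Finset.univ
  · subst hQ
    convert scal_one o α
    refine Units.ext (Matrix.ext_of_mulVec_single fun q => ?_)
    rw [ha q (Finset.mem_univ q), Units.val_one, one_mulVec]
  obtain ⟨p, hp⟩ : ∃ p, p ∉ Q := by
    by_contra h
    push Not at h
    exact hQ (Finset.eq_univ_iff_forall.2 h)
  have hlt : (Finset.univ \ insert p Q).card < m := by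
    rw [← hm]
    refine Finset.card_lt_card (Finset.ssubset_iff_of_subset (fun x hx => ?_) |>.2 ⟨p, by simp [hp], by simp⟩)
    simp only [Finset.mem_sdiff, Finset.mem_univ, Finset.mem_insert, not_or, true_and] at hx ⊢
    exact hx.2
  have hpo : p ≠ o := fun h => hp (h ▸ hoQ)
  -- reduce to a non-zero coordinate
  have hmain : ∀ b : GL (Fin n) F, (∀ q ∈ Q, b.1 *ᵥ Pi.single q 1 = Pi.single q 1) →
      (b.1 *ᵥ Pi.single p 1) p ≠ 0 → Scal ψ ρ o α b := by
    intro b hb hne
    set y := b.1 *ᵥ Pi.single p 1 with hy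
    set t : Fin n → F := Function.update y p 0 with ht
    have htp : t p = 0 := Function.update_self _ _ _
    have hd : ∀ i, Function.update (1 : Fin n → F) p (y p) i ≠ 0 := dgl_update_ne_zero p hne
    set g1 := dgl (Function.update (1 : Fin n → F) p (y p)) hd with hg1
    set g2 := colUnit p ((y p)⁻¹ • t) (by simp [htp]) with hg2
    have hrest : Scal ψ ρ o α ((g2 * g1)⁻¹ * b) := by
      refine ih _ hlt (insert p Q) rfl (Finset.mem_insert_of_mem hoQ) _ fun q hq => ?_
      have key : (g2 * g1).1 *ᵥ Pi.single q 1 = b.1 *ᵥ Pi.single q 1 := by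
        rw [Units.val_mul, ← mulVec_mulVec, hg1, hg2, colUnit_mulVec]
        rcases Finset.mem_insert.1 hq with rfl | hq
        · funext i
          rw [Pi.add_apply, Pi.smul_apply, show (dgl (Function.update (1 : Fin n → F) q (y q)) hd).1 =
            diagonal (Function.update (1 : Fin n → F) q (y q)) from rfl, mulVec_diagonal,
            mulVec_diagonal, ← hy]
          rcases eq_or_ne i q with rfl | hi
          · simp [htp]
          · simp [hi, ht]
            field_simp
        · have hqp : q ≠ p := fun h => hp (h ▸ hq)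
          rw [hb q hq]
          funext i
          rw [Pi.add_apply, Pi.smul_apply, show (dgl (Function.update (1 : Fin n → F) p (y p)) hd).1 =
            diagonal (Function.update (1 : Fin n → F) p (y p)) from rfl, mulVec_diagonal,
            mulVec_diagonal]
          rcases eq_or_ne i q with rfl | hi
          · simp [hqp, hqp.symm]
          · simp [hi, hqp.symm]
      rw [Units.val_mul, ← mulVec_mulVec, ← key, mulVec_mulVec, ← Units.val_mul, inv_mul_cancel,
        Units.val_one, one_mulVec]
    have h1 : Scal ψ ρ o α g1 :=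
      scal_diag h2 hψ hR hα _ hd (Function.update_of_ne hpo.symm _ _)
    have h2' : Scal ψ ρ o α g2 := scal_colUnit h2 hψ hR hpo hα _ _
    have := (h2'.mul h1).mul hrest
    rwa [mul_inv_cancel_left] at this
  by_cases hne : (a.1 *ᵥ Pi.single p 1) p ≠ 0
  · exact hmain a ha hne
  push Not at hne
  obtain ⟨r, hrQ, hr⟩ : ∃ r, r ∉ Q ∧ (a.1 *ᵥ Pi.single p 1) r ≠ 0 := by
    by_contra h
    push Not at h
    set y := a.1 *ᵥ Pi.single p 1 with hy
    have hyQ : y = ∑ q ∈ Q, y q • (Pi.single q 1 : Fin n → F) := by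
      funext i
      rw [Finset.sum_apply]
      by_cases hi : i ∈ Q
      · rw [Finset.sum_eq_single i] <;> simp +contextual [hi, Ne.symm]
      · rw [h i hi, Finset.sum_eq_zero]
        intro q hq
        simp [show i ≠ q from fun e => hi (e ▸ hq)]
    have h3 : (a⁻¹).1 *ᵥ y = y := by
      conv_lhs => rw [hyQ, mulVec_sum]
      conv_rhs => rw [hyQ]
      refine Finset.sum_congr rfl fun q hq => ?_
      rw [mulVec_smul]
      congr 1
      conv_lhs => rw [← ha q hq, mulVec_mulVec, Units.inv_mul, one_mulVec]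
    rw [hy, mulVec_mulVec, Units.inv_mul, one_mulVec] at h3
    have := congrFun h3 p
    rw [Pi.single_eq_same] at this
    exact one_ne_zero (this.trans hne)
  have hpr : p ≠ r := fun h => hr (h ▸ hne)
  have hro : r ≠ o := fun h => hrQ (h ▸ hoQ)
  have hb := hmain (tv p r hpr 1 * a) (fun q hq => by
      rw [Units.val_mul, ← mulVec_mulVec, ha q hq, tv_mulVec,
        Pi.single_eq_of_ne (show r ≠ q from fun h => hrQ (h ▸ hq))]
      simp) (by
      rw [Units.val_mul, ← mulVec_mulVec, tv_mulVec, Pi.add_apply, hne]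
      simpa using hr)
  have := (scal_tv h2 hψ hR hpr hro hα (-1)).mul hb
  rwa [← mul_assoc, ← tv_add, neg_add_cancel, tv_zero, one_mul] at this

variable (hε : NegScalar ρ)

include h2 hψ hR hε in
/-- An element fixing a rank-one matrix multiplies every vector of its eigenspace by a scalar. -/
theorem levi_stab {a : GL (Fin n) F} {α : F} {x : Fin n → F} (hα : α ≠ 0) (hx : x ≠ 0)
    (ha : act a (r1 α x) = r1 α x) {c : V} (hc : c ∈ ev ψ ρ (r1 α x)) :
    ∃ μ : ℂ, ρ (leviSp n F a) c = μ • c := by
  classical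
  obtain ⟨o, ho⟩ := Function.ne_iff.1 hx
  have he : (Pi.single o 1 : Fin n → F) ≠ 0 := by simp
  obtain ⟨b, hb⟩ := exists_gl_vec hx he
  set c' := ρ (leviSp n F b) c with hc'
  have hc'' : c' ∈ ev ψ ρ (r1 α (Pi.single o 1)) := by
    have := levi_mem_ev b hc
    rwa [act_r1, hb] at this
  set a' := b * a * b⁻¹ with ha'
  have hfix : act a' (r1 α (Pi.single o 1)) = r1 α (Pi.single o 1) := by
    rw [ha', act_mul, act_mul, ← hb, ← act_r1, ← act_mul b⁻¹, inv_mul_cancel, act_one, ha]
  rw [act_r1] at hfix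
  set z := a'.1 *ᵥ Pi.single o 1 with hz
  have hent : ∀ p, z p * z p = (Pi.single o 1 : Fin n → F) p * (Pi.single o 1 : Fin n → F) p :=
    fun p => by
      have := congrFun (congrFun hfix p) p
      rw [r1_apply, r1_apply] at this
      exact mul_left_cancel₀ hα this
  have hzo : ∀ p, p ≠ o → z p = 0 := fun p hp => by
    have := hent p
    rw [Pi.single_eq_of_ne hp, mul_zero] at this
    exact mul_self_eq_zero.1 this
  have h1 := hent o
  rw [Pi.single_eq_same, mul_one] at h1
  obtain ⟨ν, hν⟩ : ∃ ν : ℂ, ρ (leviSp n F a') c' = ν • c' := by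
    rcases mul_self_eq_one_iff.1 h1 with h | h
    · have hfix' : a'.1 *ᵥ Pi.single o 1 = Pi.single o 1 := by
        funext p
        rcases eq_or_ne p o with rfl | hp
        · rw [Pi.single_eq_same]; exact h
        · rw [Pi.single_eq_of_ne hp]; exact hzo p hp
      obtain ⟨μ, hμ⟩ := scal_fix_aux h2 hψ hR hα {o} (Finset.mem_singleton_self o) a'
        (by intro q hq; rw [Finset.mem_singleton.1 hq]; exact hfix')
      exact ⟨μ, hμ c' hc''⟩
    · have hfix' : ((-1) * a' : GL (Fin n) F).1 *ᵥ Pi.single o 1 = Pi.single o 1 := by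
        rw [Units.val_mul, Units.val_neg, Units.val_one, neg_one_mul, neg_mulVec]
        funext p
        show -(z p) = _
        rcases eq_or_ne p o with rfl | hp
        · rw [Pi.single_eq_same, h, neg_neg]
        · rw [Pi.single_eq_of_ne hp, hzo p hp, neg_zero]
      obtain ⟨μ, hμ⟩ := scal_fix_aux h2 hψ hR hα {o} (Finset.mem_singleton_self o) ((-1) * a')
        (by intro q hq; rw [Finset.mem_singleton.1 hq]; exact hfix')
      obtain ⟨ε, hε'⟩ := hε
      refine ⟨μ * ε, ?_⟩
      have e : a' = (-1) * ((-1) * a') := by rw [← mul_assoc, neg_mul_neg, one_mul, one_mul]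
      rw [e, map_mul, map_mul, Module.End.mul_apply, hμ c' hc'', map_smul, hε', smul_smul]
  refine ⟨ν, ?_⟩
  have := congrArg (ρ (leviSp n F b⁻¹)) hν
  rw [hc', map_smul, ← Module.End.mul_apply, ← Module.End.mul_apply, ← map_mul, ← map_mul,
    ← Module.End.mul_apply, ← map_mul, ← map_mul, ← map_mul, ha',
    show b⁻¹ * (b * a * b⁻¹) * b = a by group, ← map_mul, inv_mul_cancel, map_one, map_one,
    Module.End.one_apply] at this
  exact this

end Cfsg.Agent.Lib.SpOddDeg63
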