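import Cfsg.Agent.Lib.SpOddDeg63.Stabilizer
import Cfsg.Agent.Lib.Characters.Basic

/-!
An irreducible representation with only rank-one matrices is determined by the square class of one
of them and the scalar of the central involution.
-/

set_option autoImplicit false

namespace Cfsg.Agent.Lib.SpOddDeg63

open Matrix Cfsg.Agent.Lib.MinDegree Cfsg.Agent.Lib.UniDeg48

variable {n : ℕ} {F : Type*} [Field F] [Fintype F]
variable {V : Type*} [AddCommGroup V] [Module ℂ V]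
variable {W : Type*} [AddCommGroup W] [Module ℂ W]
variable {ψ : AddChar F ℂ} {ρ : Representation ℂ (symplecticGroup (Fin n) F) V}
variable {σ : Representation ℂ (symplecticGroup (Fin n) F) W}
variable (h2 : (2 : F) ≠ 0) (hψ : ψ 1 ≠ 1)

include h2 hψ in
/-- The projection of any translate to the eigenspace of the vector is a multiple of it. -/
theorem pr_translate_mem_span (hn : 2 ≤ n) (hR : RankOne ψ ρ) (hε : NegScalar ρ) {α : F}
    {x : Fin n → F} (hα : α ≠ 0) (hx : x ≠ 0) {c : V} (hc : c ∈ ev ψ ρ (r1 α x))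
    (g : symplecticGroup (Fin n) F) : pr ψ ρ (r1 α x) (ρ g c) ∈ (ℂ ∙ c : Submodule ℂ V) := by
  have hS := r1_isSymm α x
  have hK := compr_all h2 hψ hR hn g _ _ hS hS (r1_ne_zero hα hx) (r1_ne_zero hα hx) c hc
  rw [← pr_self (pr_mem (r1 α x) (ρ g c))]
  have hle : Ksub ρ c ≤ (ℂ ∙ c : Submodule ℂ V).comap (pr ψ ρ (r1 α x)) := by
    rw [Ksub, Submodule.span_le]
    rintro _ ⟨b, rfl⟩
    rw [SetLike.mem_coe, Submodule.mem_comap]
    by_cases hb : r1 α x = act b (r1 α x)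
    · obtain ⟨μ, hμ⟩ := levi_stab h2 hψ hR hε hα hx hb.symm hc
      show pr ψ ρ (r1 α x) (ρ (leviSp n F b) c) ∈ _
      rw [hμ, map_smul, pr_self hc]
      exact Submodule.smul_mem _ _ (Submodule.mem_span_singleton_self c)
    · show pr ψ ρ (r1 α x) (ρ (leviSp n F b) c) ∈ _
      rw [pr_of_ne h2 hψ hS (act_isSymm b hS) hb (levi_mem_ev b hc)]
      exact zero_mem _
  exact hle hK

omit [Fintype F] in
theorem mem_ev_prod {S : Matrix (Fin n) (Fin n) F} {w : V × W} :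
    w ∈ ev ψ (ρ.prod σ) S ↔ w.1 ∈ ev ψ ρ S ∧ w.2 ∈ ev ψ σ S := by
  simp only [mem_ev]
  constructor
  · intro h
    exact ⟨fun B => congrArg Prod.fst (h B), fun B => congrArg Prod.snd (h B)⟩
  · rintro ⟨h1, h2⟩ B
    exact Prod.ext (h1 B) (h2 B)

omit [Fintype F] in
theorem rankOne_prod (hρ : RankOne ψ ρ) (hσ : RankOne ψ σ) : RankOne ψ (ρ.prod σ) := by
  intro S hS hne
  obtain ⟨w, hw, hw0⟩ := Submodule.exists_mem_ne_zero_of_ne_bot hne
  rw [mem_ev_prod] at hw
  by_cases h : w.1 = 0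
  · refine hσ S hS (Submodule.ne_bot_iff _ |>.2 ⟨w.2, hw.2, fun h' => hw0 (Prod.ext h h')⟩)
  · exact hρ S hS (Submodule.ne_bot_iff _ |>.2 ⟨w.1, hw.1, h⟩)

omit [Fintype F] in
/-- The span of an orbit as a subrepresentation is everything. -/
theorem eq_top_of_invariant_ne_bot [ρ.IsIrreducible] {U : Submodule ℂ V}
    (h : ∀ g, ∀ v ∈ U, ρ g v ∈ U) (hne : U ≠ ⊥) : U = ⊤ := by
  rcases IsSimpleOrder.eq_bot_or_eq_top (⟨U, fun g v hv => h g v hv⟩ : Subrepresentation ρ) with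
    h' | h'
  · exact absurd (congrArg Subrepresentation.toSubmodule h') hne
  · exact congrArg Subrepresentation.toSubmodule h'

include h2 hψ in
/-- The comparison. -/
theorem char_eq_of_same_type (hn : 2 ≤ n) [FiniteDimensional ℂ V] [FiniteDimensional ℂ W]
    [ρ.IsIrreducible] [σ.IsIrreducible] (hρ : RankOne ψ ρ) (hσ : RankOne ψ σ) {ε : ℂ}
    (hερ : ∀ v, ρ (leviSp n F (-1)) v = ε • v) (hεσ : ∀ v, σ (leviSp n F (-1)) v = ε • v)
    {α : F} {x : Fin n → F} (hα : α ≠ 0) (hx : x ≠ 0) (hnρ : ev ψ ρ (r1 α x) ≠ ⊥)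
    (hnσ : ev ψ σ (r1 α x) ≠ ⊥) : ρ.character = σ.character := by
  obtain ⟨c, hc, hc0⟩ := Submodule.exists_mem_ne_zero_of_ne_bot hnρ
  obtain ⟨c', hc', hc0'⟩ := Submodule.exists_mem_ne_zero_of_ne_bot hnσ
  let π := ρ.prod σ
  have hR : RankOne ψ π := rankOne_prod hρ hσ
  have hε : NegScalar π := ⟨ε, fun v => Prod.ext (hερ v.1) (hεσ v.2)⟩
  have hcc : (c, c') ∈ ev ψ π (r1 α x) := mem_ev_prod.2 ⟨hc, hc'⟩
  set K : Submodule ℂ (V × W) := Submodule.span ℂ (Set.range fun g => π g (c, c')) with hK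
  have hKinv : ∀ g, ∀ v ∈ K, π g v ∈ K := by
    intro g v hv
    have : K.map (π g) ≤ K := by
      rw [hK, Submodule.map_span, Submodule.span_le]
      rintro _ ⟨_, ⟨k, rfl⟩, rfl⟩
      refine Submodule.subset_span ⟨g * k, ?_⟩
      simp only [map_mul, Module.End.mul_apply]
    exact this ⟨v, hv, rfl⟩
  have hmem : (c, c') ∈ K := Submodule.subset_span ⟨1, by simp⟩
  have hpr : ∀ w ∈ K, w ∈ ev ψ π (r1 α x) → w ∈ (ℂ ∙ (c, c') : Submodule ℂ (V × W)) := by
    intro w hw hwe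
    rw [← pr_self hwe]
    have hle : K ≤ (ℂ ∙ (c, c') : Submodule ℂ (V × W)).comap (pr ψ π (r1 α x)) := by
      rw [hK, Submodule.span_le]
      rintro _ ⟨g, rfl⟩
      exact pr_translate_mem_span h2 hψ hn hR hε hα hx hcc g
    exact hle hw
  have hfst : ∀ v, (v, (0 : W)) ∈ K → v = 0 := by
    let U : Submodule ℂ V := K.comap (LinearMap.inl ℂ V W)
    have hUinv : ∀ g, ∀ v ∈ U, ρ g v ∈ U := fun g v hv => by
      have := hKinv g _ hv
      have e : π g (v, (0 : W)) = (ρ g v, 0) := Prod.ext rfl (map_zero (σ g))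
      show (ρ g v, (0 : W)) ∈ K
      rw [← e]; exact this
    intro v hv
    by_contra hv0
    have htop := eq_top_of_invariant_ne_bot hUinv (Submodule.ne_bot_iff _ |>.2 ⟨v, hv, hv0⟩)
    have hcK : (c, (0 : W)) ∈ K := show c ∈ U by rw [htop]; trivial
    obtain ⟨μ, hμ⟩ := Submodule.mem_span_singleton.1
      (hpr _ hcK (mem_ev_prod.2 ⟨hc, zero_mem _⟩))
    rw [Prod.smul_mk, Prod.mk.injEq] at hμ
    rcases smul_eq_zero.1 hμ.2 with h | h
    · simp only [h, zero_smul] at hμ; exact hc0 hμ.1.symm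
    · exact hc0' h
  have hsnd : ∀ w, ((0 : V), w) ∈ K → w = 0 := by
    let U : Submodule ℂ W := K.comap (LinearMap.inr ℂ V W)
    have hUinv : ∀ g, ∀ v ∈ U, σ g v ∈ U := fun g v hv => by
      have := hKinv g _ hv
      have e : π g ((0 : V), v) = (0, σ g v) := Prod.ext (map_zero (ρ g)) rfl
      show ((0 : V), σ g v) ∈ K
      rw [← e]; exact this
    intro v hv
    by_contra hv0
    have htop := eq_top_of_invariant_ne_bot hUinv (Submodule.ne_bot_iff _ |>.2 ⟨v, hv, hv0⟩)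
    have hcK : ((0 : V), c') ∈ K := show c' ∈ U by rw [htop]; trivial
    obtain ⟨μ, hμ⟩ := Submodule.mem_span_singleton.1
      (hpr _ hcK (mem_ev_prod.2 ⟨zero_mem _, hc'⟩))
    rw [Prod.smul_mk, Prod.mk.injEq] at hμ
    rcases smul_eq_zero.1 hμ.1 with h | h
    · simp only [h, zero_smul] at hμ; exact hc0' hμ.2.symm
    · exact hc0 h
  let f1 : K →ₗ[ℂ] V := (LinearMap.fst ℂ V W).comp K.subtype
  let f2 : K →ₗ[ℂ] W := (LinearMap.snd ℂ V W).comp K.subtype
  have h1 : Function.Bijective f1 := by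
    constructor
    · rw [← LinearMap.ker_eq_bot, LinearMap.ker_eq_bot']
      rintro ⟨⟨v, w⟩, hvw⟩ (hv : v = 0)
      subst hv
      exact Subtype.ext (Prod.ext rfl (hsnd w hvw))
    · rw [← LinearMap.range_eq_top]
      refine eq_top_of_invariant_ne_bot (ρ := ρ) ?_ (Submodule.ne_bot_iff _ |>.2 ⟨c, ⟨⟨_, hmem⟩, rfl⟩, hc0⟩)
      rintro g _ ⟨⟨k, hk⟩, rfl⟩
      exact ⟨⟨π g k, hKinv g k hk⟩, rfl⟩
  have h3 : Function.Bijective f2 := by
    constructor
    · rw [← LinearMap.ker_eq_bot, LinearMap.ker_eq_bot']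
      rintro ⟨⟨v, w⟩, hvw⟩ (hw : w = 0)
      subst hw
      exact Subtype.ext (Prod.ext (hfst v hvw) rfl)
    · rw [← LinearMap.range_eq_top]
      refine eq_top_of_invariant_ne_bot (ρ := σ) ?_ (Submodule.ne_bot_iff _ |>.2 ⟨c', ⟨⟨_, hmem⟩, rfl⟩, hc0'⟩)
      rintro g _ ⟨⟨k, hk⟩, rfl⟩
      exact ⟨⟨π g k, hKinv g k hk⟩, rfl⟩
  let e := (LinearEquiv.ofBijective f1 h1).symm.trans (LinearEquiv.ofBijective f2 h3)
  refine Representation.char_iso (Representation.Equiv.mk e fun g => LinearMap.ext fun v => ?_)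
  obtain ⟨k, rfl⟩ := h1.2 v
  have hk : ρ g (f1 k) = f1 ⟨π g k, hKinv g k k.2⟩ := rfl
  show e (ρ g (f1 k)) = σ g (e (f1 k))
  have he : ∀ k, e (f1 k) = f2 k := fun k => by
    show LinearEquiv.ofBijective f2 h3 ((LinearEquiv.ofBijective f1 h1).symm
      ((LinearEquiv.ofBijective f1 h1) k)) = f2 k
    rw [LinearEquiv.symm_apply_apply]; rfl
  rw [hk, he, he]
  rfl

include h2 hψ in
theorem exists_type (hn : 2 ≤ n) (hodd : Odd (Fintype.card F)) (hρ : RankOne ψ ρ)
    (hnt : ∃ g, ρ g ≠ 1) : ∃ α x, α ≠ 0 ∧ x ≠ 0 ∧ ev ψ ρ (r1 α x) ≠ ⊥ := by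
  let B : symMats n F := ⟨1, Matrix.isSymm_one⟩
  have hB : B ≠ 0 := fun h => by
    have := congrFun (congrFun (congrArg Subtype.val h) (⟨0, by omega⟩ : Fin n)) ⟨0, by omega⟩
    simp [B] at this
  obtain ⟨χ, hχ, hocc⟩ := exists_occurs ρ (lowerUni n F) (lowerUni_acts hn hodd ρ hnt hB)
  obtain ⟨S, hS, rfl⟩ := symChar_surjective h2 hψ χ
  obtain ⟨α, x, rfl⟩ := hρ S hS ((occurs_iff_eigSub ρ _).1 hocc)
  have h0 : r1 α x ≠ 0 := fun h0 => hχ (by
    rw [h0, symChar_apply, Matrix.zero_mul, trace_zero, AddChar.map_zero_eq_one])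
  exact ⟨α, x, fun h => h0 (by rw [h]; simp [r1]), fun h => h0 (by rw [h]; simp [r1]),
    (occurs_iff_eigSub ρ _).1 hocc⟩

omit [Fintype F] in
theorem neg_one_central (g : symplecticGroup (Fin n) F) :
    leviSp n F (-1) * g = g * leviSp n F (-1) := by
  apply Subtype.ext
  have e : (leviSp n F (-1)).1 = -1 := by
    rw [levi_coe, inv_neg, inv_one, Units.val_neg, Units.val_one, transpose_neg, transpose_one,
      ← fromBlocks_one, fromBlocks_neg, neg_zero]
  rw [Submonoid.coe_mul, Submonoid.coe_mul, e, neg_one_mul, mul_neg_one]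

omit [Fintype F] in
theorem exists_neg_scalar [FiniteDimensional ℂ V] [ρ.IsIrreducible] :
    ∃ ε : ℂ, (ε = 1 ∨ ε = -1) ∧ ∀ v, ρ (leviSp n F (-1)) v = ε • v := by
  let f : Representation.IntertwiningMap ρ ρ :=
    { toLinearMap := ρ (leviSp n F (-1))
      isIntertwining' := fun g => by
        rw [← Module.End.mul_eq_comp, ← Module.End.mul_eq_comp, ← map_mul, ← map_mul,
          neg_one_central] }
  obtain ⟨ε, hε⟩ :=
    (Representation.IsIrreducible.algebraMap_intertwiningMap_bijective_of_isAlgClosed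
      (ρ := ρ)).2 f
  have hv : ∀ v, ρ (leviSp n F (-1)) v = ε • v := fun v => by
    have := congrArg (fun m : Representation.IntertwiningMap ρ ρ => m.toLinearMap v) hε
    simpa [f] using this.symm
  obtain ⟨v, hv0⟩ : ∃ v : V, v ≠ 0 := by
    by_contra h
    push Not at h
    have := Lib.Characters.Basic.finrank_pos_of_isIrreducible ρ
    have : Subsingleton V := ⟨fun a b => (h a).trans (h b).symm⟩
    simp [Module.finrank_zero_of_subsingleton] at *
  have hsq : (ε * ε) • v = (1 : ℂ) • v := by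
    calc (ε * ε) • v = ρ (leviSp n F (-1)) (ρ (leviSp n F (-1)) v) := by
          rw [hv v, map_smul, hv v, smul_smul]
      _ = (1 : ℂ) • v := by
          rw [← Module.End.mul_apply, ← map_mul, ← map_mul, neg_mul_neg, one_mul, map_one, map_one,
            Module.End.one_apply, one_smul]
  exact ⟨ε, mul_self_eq_one_iff.1 (smul_left_injective ℂ hv0 hsq), hv⟩

end Cfsg.Agent.Lib.SpOddDeg63
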